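import Groth.Agent.H34.Elliptic.Group
import Groth.Prelude.Def_AbDual
import Mathlib.AlgebraicGeometry.Sites.Fpqc
import Mathlib.FieldTheory.IsAlgClosed.AlgebraicClosure

/-!
# The Abel map of a family of genus one is an isomorphism onto `Pic⁰`
-/

set_option autoImplicit false
set_option linter.style.haveILetI false
universe u

open CategoryTheory CategoryTheory.Limits AlgebraicGeometry Opposite TopologicalSpace

noncomputable section

namespace Groth.Agent.H34.Elliptic.AbelIso

open Groth.Agent Groth.Agent.Lib TensorMod.Pullback Group PicGrp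

local instance (Y : Scheme.{u}) : PicGrp.Law Y := TensorMod.Invertible.law Y

section Field

variable {C S : Scheme.{u}} {f : C ⟶ S}

/-- A family of genus one has trivial Euler characteristic. -/
theorem euler_structure (h : Point.Fam f) (s : S) :
    (CohIII.fiberRank f (Coh.structureModule C) 0 s : ℤ) -
      CohIII.fiberRank f (Coh.structureModule C) 1 s = 0 := by
  rw [Point.fiberRank_zero_structure h.proper h.smooth h.conn h.dim, h.genus]
  norm_num

/-- Modules algebraically equivalent to zero on the geometric fibre have degree zero. -/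
theorem deg_zero_of_algTrivial (h : Point.Fam f) {L : C.Modules} (hL : PicF.IsInvertible L) (s : S)
    (halg : AbDual.IsAlgTrivialAt f L s) :
    (CohIII.fiberRank f L 0 s : ℤ) - CohIII.fiberRank f L 1 s = 0 := by
  let Ω := AlgebraicClosure (S.residueField s)
  let σ : Spec (CommRingCat.of Ω) ⟶ S :=
    Spec.map (CommRingCat.ofHom (algebraMap (S.residueField s) Ω)) ≫ S.fromSpecResidueField s
  have hσz : ∀ z, σ z = s := fun z => by
    rw [Scheme.Hom.comp_apply]; exact Scheme.fromSpecResidueField_apply _ _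
  have hσ : Set.range σ.base = {s} := by
    ext w
    constructor
    · rintro ⟨z, rfl⟩; exact hσz z
    · rintro rfl; exact ⟨IsLocalRing.closedPoint Ω, hσz _⟩
  let q' := pullback.snd f σ
  have sq : IsPullback (pullback.fst f σ) q' f σ := IsPullback.of_hasPullback f σ
  have h' := h.pull sq
  haveI := h'.proper
  haveI := h'.smooth
  haveI := h'.conn
  letI : (pullback f σ).Over (Spec (CommRingCat.of Ω)) := ⟨q'⟩
  obtain ⟨T', q, hconn, -, -, M, hM, t, t₀, ht, ht₀, ⟨e⟩, ⟨e₀⟩⟩ := halg Ω σ hσ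
  let p' := pullback.snd q' q
  have hp' : Point.Fam p' := h'.pull (IsPullback.of_hasPullback q' q)
  have key : ∀ (u : Spec (CommRingCat.of Ω) ⟶ T') (hu : u ≫ q = 𝟙 _)
      (N : (pullback f σ).Modules), (Pic13.fibreMod Ω (pullback f σ) q u hu M ≅ N) → ∀ z,
      (CohIII.fiberRank p' M 0 (u z) : ℤ) - CohIII.fiberRank p' M 1 (u z) =
        (CohIII.fiberRank q' N 0 z : ℤ) - CohIII.fiberRank q' N 1 z := by
    intro u hu N i z
    have hsl : IsPullback (Pic13.sliceAt Ω (pullback f σ) q u hu) q' p' u := by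
      refine IsPullback.of_right ?_ (pullback.lift_snd _ _ _) (IsPullback.of_hasPullback q' q)
      rw [show Pic13.sliceAt Ω (pullback f σ) q u hu ≫ pullback.fst q' q = 𝟙 (pullback f σ) from
        pullback.lift_fst _ _ _, hu]
      exact IsPullback.of_horiz_isIso ⟨by simp⟩
    rw [← Point.fiberRank_pull hp' hM hsl 0 z, ← Point.fiberRank_pull hp' hM hsl 1 z,
      ← PicDegree.fiberRank_congr q' i 0 z, ← PicDegree.fiberRank_congr q' i 1 z]
    rfl
  haveI : Flat q' := inferInstance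
  haveI : LocallyOfFinitePresentation q' := inferInstance
  have hloc := PicDegree.isLocallyConstant_D q' h'.dim (Over.mk q) M hM
  haveI : PreconnectedSpace (Over.mk q).left := hconn.toPreconnectedSpace
  have hD : ∀ w : T', PicDegree.D q' (Over.mk q) M w =
      (CohIII.fiberRank p' M 0 w : ℤ) - CohIII.fiberRank p' M 1 w := fun w => by
    have h0 := euler_structure hp' w
    show ((CohIII.fiberRank p' M 0 w : ℤ) - CohIII.fiberRank p' M 1 w) -
      ((CohIII.fiberRank p' (Coh.structureModule _) 0 w : ℤ) -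
        CohIII.fiberRank p' (Coh.structureModule _) 1 w) = _
    rw [h0, sub_zero]
  let z : Spec (CommRingCat.of Ω) := IsLocalRing.closedPoint Ω
  have h1 := hloc.apply_eq_of_preconnectedSpace (t z) (t₀ z)
  rw [hD, hD, key t ht _ e z, key t₀ ht₀ _ e₀ z, euler_structure h' z] at h1
  rw [Point.fiberRank_pull h hL sq 0 z, Point.fiberRank_pull h hL sq 1 z, hσz] at h1
  exact h1

end Field

variable {C S : Scheme.{u}} {f : C ⟶ S} (h : Point.Fam f) (e : S ⟶ C) (he : e ≫ f = 𝟙 S)
  {LΔ : (PicF.XT f (Over.mk f)).Modules} (hLΔ : PicF.IsInvertible LΔ)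
  (hΔ : ClSub.IsInverseOf LΔ (ClSub.idealMod (pullback.diagonal f).ker))

/-- The universal module `O(Δ - e)`. -/
def C₀ (e : S ⟶ C) (LΔ : (PicF.XT f (Over.mk f)).Modules) : (PicF.XT f (Over.mk f)).Modules :=
  CohB1.tensorMod LΔ ((Scheme.Modules.pullback (pullback.fst f f)).obj (ClSub.idealMod e.ker))

/-- The module `O(x - e)`. -/
abbrev Ax (e : S ⟶ C) (LΔ : (PicF.XT f (Over.mk f)).Modules) {T : Over S} (x : T ⟶ Over.mk f) :
    (PicF.XT f T).Modules :=
  (Scheme.Modules.pullback (PicF.XTmap f x)).obj (C₀ e LΔ)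

include h he hLΔ in
theorem isInvertible_C₀ : PicF.IsInvertible (C₀ e LΔ) :=
  TensorMod.Invertible.isInvertible_tensorMod hLΔ (PicLoc.isInvertible_pullback _
    (Lib.ClSub.Cartier.isInvertible_idealMod (Point.isEffCartier_sec h e he)))

include h he hLΔ in
theorem isInvertible_Ax {T : Over S} (x : T ⟶ Over.mk f) : PicF.IsInvertible (Ax e LΔ x) :=
  PicLoc.isInvertible_pullback _ (isInvertible_C₀ h e he hLΔ)

include hΔ in
/-- The class of `O(x - e)`. -/
theorem qc_Ax {T : Over S} (x : T ⟶ Over.mk f) :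
    qc (Ax e LΔ x) (isInvertible_Ax h e he hLΔ x) = ψ h e he x := by
  obtain ⟨i⟩ := Point.nonempty_pullback_sec (h.pull (sqT f (Over.mk f))) (HilbD.Basic.isPullback_XTmap f x)
    (pullback.diagonal f) (pullback.diagonal_snd f) (psec x) (HilbD.Sec.sec_proj f T _ _)
    (pullback.hom_ext
      (by rw [Category.assoc, HilbD.Basic.XTmap_fst, HilbD.Sec.sec_fst, Category.assoc]
          exact ((congrArg (x.left ≫ ·) (pullback.diagonal_fst f)).trans (Category.comp_id _)).symm)
      (by rw [Category.assoc, HilbD.Basic.XTmap_snd, ← Category.assoc, HilbD.Sec.sec_proj,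
            Category.id_comp, Category.assoc]
          exact ((congrArg (x.left ≫ ·) (pullback.diagonal_snd f)).trans (Category.comp_id _)).symm))
  obtain ⟨j⟩ := Point.nonempty_pullback_sec h (sqT f T) e he (psec (origin e he T))
    (HilbD.Sec.sec_proj f T _ _) (HilbD.Sec.sec_fst f T _ _)
  obtain ⟨d⟩ := hΔ
  have hI := isInvertible_sec h x
  have hO := isInvertible_sec h (origin e he T)
  have hA := PicLoc.isInvertible_pullback (PicF.XTmap f x) hLΔ
  have hinv : qc ((Scheme.Modules.pullback (PicF.XTmap f x)).obj LΔ) hA = (qc _ hI)⁻¹ := by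
    refine eq_inv_of_mul_eq_one_left ?_
    rw [qc_mul, show (1 : Q f T) = qc _ (PicLoc.isInvertible_structureModule _) from
      (congrArg _ cls_structureModule_eq_one).symm]
    exact congrArg _ ((cls_eq_cls_iff _ _).2 ⟨TensorMod.Basic.tensorIso (Iso.refl _) i.symm ≪≫
      (pullbackTensorIso (PicF.XTmap f x) _ _).symm ≪≫
      (Scheme.Modules.pullback (PicF.XTmap f x)).mapIso d ≪≫ PicLoc.pullbackStructureIso _⟩)
  rw [ψ, div_eq_mul_inv, mul_comm, ← hinv, qc_mul]
  exact congrArg _ ((cls_eq_cls_iff _ _).2 ⟨pullbackTensorIso _ _ _ ≪≫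
    TensorMod.Basic.tensorIso (Iso.refl _) ((Scheme.Modules.pullbackComp _ _).app _ ≪≫
      (Scheme.Modules.pullbackCongr (HilbD.Basic.XTmap_fst f x)).app _ ≪≫ j)⟩)

include h he hLΔ hΔ in
/-- `O(x - e)` is algebraically equivalent to zero on every geometric fibre. -/
theorem isPicZero_Ax {T : Over S} (x : T ⟶ Over.mk f) :
    AbDual.IsPicZeroCl f T (PicF.cl (Ax e LΔ x)) := by
  refine ⟨_, rfl, isInvertible_Ax h e he hLΔ x, fun t Ω _ _ σ hσ => ?_⟩
  let P := PicF.XTproj f T
  let q' := pullback.snd P σ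
  let π : pullback P σ ⟶ C := pullback.fst P σ ≫ pullback.fst f T.hom
  have sq : IsPullback (pullback.fst P σ) q' P σ := IsPullback.of_hasPullback P σ
  have h' := (h.pull (sqT f T)).pull sq
  haveI := h'.proper
  haveI := h'.conn
  letI : (pullback P σ).Over (Spec (CommRingCat.of Ω)) := ⟨q'⟩
  have hπ : π ≫ f = q' ≫ σ ≫ T.hom := by
    simp only [π, q', P, Category.assoc, pullback.condition]
    rw [← Category.assoc, pullback.condition, Category.assoc]
  let hm : Pic13.prodK Ω (pullback P σ) q' ⟶ pullback f f :=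
    pullback.lift (pullback.fst q' q' ≫ π) (pullback.snd q' q' ≫ π) (by
      exact (Category.assoc _ π f).trans ((congrArg (pullback.fst q' q' ≫ ·) hπ).trans
        ((Category.assoc _ q' _).symm.trans ((congrArg (· ≫ σ ≫ T.hom) pullback.condition).trans
          ((Category.assoc _ q' _).trans ((congrArg (pullback.snd q' q' ≫ ·) hπ.symm).trans
            (Category.assoc _ π f).symm))))))
  have hx : x.left ≫ f = T.hom := Over.w x
  have hpt : ∀ c : T.left ⟶ C, c ≫ f = T.hom → ∃ u : Spec (CommRingCat.of Ω) ⟶ pullback P σ,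
      u ≫ q' = 𝟙 _ ∧ u ≫ π = σ ≫ c := by
    intro c hc
    refine ⟨pullback.lift (pullback.lift (σ ≫ c) σ (by rw [Category.assoc, hc])) (𝟙 _) (by
      rw [pullback.lift_snd, Category.id_comp]), pullback.lift_snd _ _ _, ?_⟩
    simp only [π]
    rw [pullback.lift_fst_assoc, pullback.lift_fst]
  obtain ⟨u, hu, huπ⟩ := hpt x.left hx
  obtain ⟨u₀, hu₀, hu₀π⟩ := hpt (T.hom ≫ e) (by rw [Category.assoc, he, Category.comp_id])
  haveI : ConnectedSpace ↑((pullback P σ : Scheme.{u})) := by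
    haveI : Nonempty (Spec (CommRingCat.of Ω)) := inferInstanceAs (Nonempty (PrimeSpectrum Ω))
    haveI : Subsingleton (Spec (CommRingCat.of Ω)) := inferInstanceAs (Subsingleton (PrimeSpectrum Ω))
    exact GeometricallyConnected.connectedSpace_of_subsingleton q'
  have hsl₁ : ∀ (w : Spec (CommRingCat.of Ω) ⟶ pullback P σ) (hw : w ≫ q' = 𝟙 _),
      (Pic13.sliceAt Ω (pullback P σ) q' w hw ≫ hm) ≫ pullback.fst f f = π := fun w hw =>
    (Category.assoc _ _ _).trans ((congrArg (Pic13.sliceAt Ω (pullback P σ) q' w hw ≫ ·)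
      (pullback.lift_fst _ _ _)).trans ((Category.assoc _ _ _).symm.trans
      ((congrArg (· ≫ π) (pullback.lift_fst _ _ _)).trans (Category.id_comp π))))
  have hsl₂ : ∀ (w : Spec (CommRingCat.of Ω) ⟶ pullback P σ) (hw : w ≫ q' = 𝟙 _),
      (Pic13.sliceAt Ω (pullback P σ) q' w hw ≫ hm) ≫ pullback.snd f f = q' ≫ w ≫ π := fun w hw =>
    (Category.assoc _ _ _).trans ((congrArg (Pic13.sliceAt Ω (pullback P σ) q' w hw ≫ ·)
      (pullback.lift_snd _ _ _)).trans ((Category.assoc _ _ _).symm.trans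
      ((congrArg (· ≫ π) (pullback.lift_snd _ _ _)).trans (Category.assoc q' w π))))
  have hO := isInvertible_C₀ h e he hLΔ
  refine ⟨pullback P σ, q', inferInstance, inferInstance, inferInstance,
    (Scheme.Modules.pullback hm).obj (C₀ e LΔ), PicLoc.isInvertible_pullback _ hO, u, u₀, hu, hu₀, ⟨?_⟩, ?_⟩
  · refine (Scheme.Modules.pullbackComp _ hm).app _ ≪≫ (Scheme.Modules.pullbackCongr ?_).app _ ≪≫
      ((Scheme.Modules.pullbackComp (pullback.fst P σ) (PicF.XTmap f x)).app _).symm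
    apply pullback.hom_ext
    · refine (hsl₁ u hu).trans ?_
      exact ((Category.assoc _ _ _).trans
        (congrArg (pullback.fst P σ ≫ ·) (HilbD.Basic.XTmap_fst f x))).symm
    · refine (hsl₂ u hu).trans ?_
      rw [huπ]
      refine Eq.trans ?_ ((Category.assoc _ _ _).trans
        (congrArg (pullback.fst P σ ≫ ·) (HilbD.Basic.XTmap_snd f x))).symm
      show _ = pullback.fst P σ ≫ P ≫ x.left
      rw [← Category.assoc (pullback.fst P σ), pullback.condition, Category.assoc]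
  · let ψe : C ⟶ pullback f f := pullback.lift (𝟙 C) (f ≫ e) (by rw [Category.id_comp, Category.assoc, he, Category.comp_id])
    have hψ : IsPullback ψe f (PicF.XTproj f (Over.mk f)) e := by
      refine IsPullback.of_right ?_ (pullback.lift_snd _ _ _) (sqT f (Over.mk f))
      rw [show ψe ≫ pullback.fst f (Over.mk f).hom = 𝟙 C from pullback.lift_fst _ _ _,
        show e ≫ (Over.mk f).hom = 𝟙 S from he]
      exact IsPullback.of_horiz_isIso ⟨by simp⟩
    obtain ⟨i⟩ := Point.nonempty_pullback_sec (h.pull (sqT f (Over.mk f))) hψ (pullback.diagonal f)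
      (pullback.diagonal_snd f) e he (pullback.hom_ext
        ((Category.assoc _ _ _).trans ((congrArg (e ≫ ·) (pullback.lift_fst _ _ _)).trans
          ((congrArg (e ≫ ·) (pullback.diagonal_fst f).symm).trans (Category.assoc _ _ _).symm)))
        ((Category.assoc _ _ _).trans ((congrArg (e ≫ ·) (pullback.lift_snd _ _ _)).trans
          ((Category.assoc e f e).symm.trans ((congrArg (· ≫ e) he).trans ((Category.id_comp e).trans
            ((Category.comp_id e).symm.trans ((congrArg (e ≫ ·) (pullback.diagonal_snd f).symm).trans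
              (Category.assoc _ _ _).symm))))))))
    obtain ⟨d⟩ := hΔ
    let triv : (Scheme.Modules.pullback ψe).obj (C₀ e LΔ) ≅ Coh.structureModule C :=
      pullbackTensorIso _ _ _ ≪≫ TensorMod.Basic.tensorIso (Iso.refl _)
        ((Scheme.Modules.pullbackComp ψe (pullback.fst f f)).app _ ≪≫
          (Scheme.Modules.pullbackCongr (pullback.lift_fst _ _ _)).app _ ≪≫
          (Scheme.Modules.pullbackId C).app _ ≪≫ i.symm) ≪≫
        (pullbackTensorIso ψe _ _).symm ≪≫ (Scheme.Modules.pullback ψe).mapIso d ≪≫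
        PicLoc.pullbackStructureIso _
    refine ⟨(Scheme.Modules.pullbackComp _ hm).app _ ≪≫ (Scheme.Modules.pullbackCongr ?_).app _ ≪≫
      ((Scheme.Modules.pullbackComp π ψe).app _).symm ≪≫ (Scheme.Modules.pullback π).mapIso triv ≪≫
      PicLoc.pullbackStructureIso _⟩
    apply pullback.hom_ext
    · refine (hsl₁ u₀ hu₀).trans ?_
      exact ((Category.assoc _ _ _).trans
        ((congrArg (π ≫ ·) (pullback.lift_fst _ _ _)).trans (Category.comp_id π))).symm
    · refine (hsl₂ u₀ hu₀).trans ?_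
      rw [hu₀π]
      refine Eq.trans ?_ ((Category.assoc _ _ _).trans (congrArg (π ≫ ·) (pullback.lift_snd _ _ _))).symm
      rw [← Category.assoc π, hπ]
      simp only [Category.assoc]

variable (P₀ : Over S) (φ₀ : ∀ T : Over S, PicF.Cl (PicF.XT f T) → (T ⟶ P₀))
  (hP₀ : AbDual.IsRelPicZeroK Scheme.fppfPrecoverage f P₀ φ₀)

include hP₀ in
/-- Classes equal up to the base have the same point. -/
theorem φ_eq_of_qc {T : Over S} {L L' : (PicF.XT f T).Modules} (hL : PicF.IsInvertible L)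
    (hL' : PicF.IsInvertible L') (hz : AbDual.IsPicZeroCl f T (PicF.cl L))
    (hz' : AbDual.IsPicZeroCl f T (PicF.cl L')) (hq : qc L hL = qc L' hL') :
    φ₀ T (PicF.cl L) = φ₀ T (PicF.cl L') := by
  obtain ⟨N, hN, ⟨i⟩⟩ := (qc_eq_iff hL hL').1 hq
  refine Over.OverMorphism.ext (Scheme.hom_ext_of_forall _ _ fun y => ?_)
  obtain ⟨W, hy, ⟨j⟩⟩ := hN y
  refine ⟨W, hy, ?_⟩
  let g := AbDual.ovrHom T W.ι
  have hcl : PicF.pullCl (PicF.XTmap f g) (PicF.cl L) = PicF.pullCl (PicF.XTmap f g) (PicF.cl L') := by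
    refine (cl_eq_cl_iff _ _).2 ⟨(Scheme.Modules.pullback _).mapIso i ≪≫ pullbackTensorIso _ _ _ ≪≫
      TensorMod.Basic.tensorIso (Iso.refl _)
        ((Scheme.Modules.pullbackComp (PicF.XTmap f g) (PicF.XTproj f T)).app N ≪≫
          (Scheme.Modules.pullbackCongr (HilbD.Basic.XTmap_snd f g)).app N ≪≫
          ((Scheme.Modules.pullbackComp _ W.ι).app N).symm ≪≫
          (Scheme.Modules.pullback _).mapIso
            (((Scheme.Modules.restrictFunctorIsoPullback W.ι).app N).symm ≪≫ j) ≪≫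
          PicLoc.pullbackStructureIso _) ≪≫ TensorMod.Basic.rightUnit _⟩
  have h1 := (hP₀.natural T _ g _ hz).symm.trans ((congrArg (φ₀ _) hcl).trans (hP₀.natural T _ g _ hz'))
  exact congrArg CommaMorphism.left h1

/-- The Abel map. -/
abbrev abel (e : S ⟶ C) (LΔ : (PicF.XT f (Over.mk f)).Modules) : Over.mk f ⟶ P₀ :=
  φ₀ (Over.mk f) (PicF.cl (C₀ e LΔ))

include h he hLΔ hΔ hP₀ in
theorem comp_abel {T : Over S} (x : T ⟶ Over.mk f) :
    φ₀ T (PicF.cl (Ax e LΔ x)) = x ≫ abel P₀ φ₀ e LΔ := by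
  have hz := isPicZero_Ax h e he hLΔ hΔ (𝟙 (Over.mk f))
  have hid : PicF.cl (Ax e LΔ (𝟙 (Over.mk f))) = PicF.cl (C₀ e LΔ) := by
    show PicF.pullCl _ (PicF.cl (C₀ e LΔ)) = _
    rw [HilbD.Basic.XTmap_id, PicLoc.pullCl_id]
  rw [hid] at hz
  exact hP₀.natural _ _ x _ hz

include h he hLΔ hΔ hP₀ in
/-- The Abel map is an isomorphism. -/
theorem isIso_abel : IsIso (abel P₀ φ₀ e LΔ).left := by
  let a := abel P₀ φ₀ e LΔ
  have sheaf : ∀ (Z : Scheme.{u}) {Y : Scheme.{u}} (R : Presieve Y), R ∈ Scheme.fppfPrecoverage Y →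
      Presieve.IsSheafFor (yoneda.obj Z) R := fun Z Y R hR =>
    (GrothendieckTopology.Subcanonical.isSheaf_of_isRepresentable (J := Scheme.fppfTopology)
      (yoneda.obj Z)).isSheafFor R (Precoverage.generate_mem_toGrothendieck hR)
  have ext : ∀ {Z Y : Scheme.{u}} {R : Presieve Y}, R ∈ Scheme.fppfPrecoverage Y →
      ∀ m m' : Y ⟶ Z, (∀ ⦃U : Scheme.{u}⦄ (u : U ⟶ Y), R u → u ≫ m = u ≫ m') → m = m' :=
    fun {Z Y R} hR m m' hm => (sheaf Z R hR).isSeparatedFor.ext fun U u hu => hm u hu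
  have mono : ∀ {T : Over S} (x y : T ⟶ Over.mk f), x ≫ a = y ≫ a → x = y := by
    intro T x y hxy
    rw [← comp_abel h e he hLΔ hΔ P₀ φ₀ hP₀ x, ← comp_abel h e he hLΔ hΔ P₀ φ₀ hP₀ y] at hxy
    obtain ⟨R, hR, hloc⟩ := hP₀.locallyInjective T _ _ (isPicZero_Ax h e he hLΔ hΔ x)
      (isPicZero_Ax h e he hLΔ hΔ y) hxy
    refine Over.OverMorphism.ext (ext hR _ _ fun U u hu => ?_)
    have h1 := hloc u hu
    let g := AbDual.ovrHom T u
    have key : ∀ w : T ⟶ Over.mk f, Nonempty ((Scheme.Modules.pullback (PicF.XTmap f g)).obj (Ax e LΔ w) ≅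
        Ax e LΔ (g ≫ w)) := fun w =>
      ⟨(Scheme.Modules.pullbackComp _ _).app _ ≪≫
        (Scheme.Modules.pullbackCongr (HilbD.Basic.XTmap_comp f w g).symm).app _⟩
    obtain ⟨kx⟩ := key x
    obtain ⟨ky⟩ := key y
    obtain ⟨i⟩ := (cl_eq_cl_iff _ _).1 h1
    have h2 : qc _ (isInvertible_Ax h e he hLΔ (g ≫ x)) = qc _ (isInvertible_Ax h e he hLΔ (g ≫ y)) :=
      congrArg _ ((cls_eq_cls_iff _ _).2 ⟨kx.symm ≪≫ i ≪≫ ky⟩)
    rw [qc_Ax h e he hLΔ hΔ, qc_Ax h e he hLΔ hΔ] at h2
    exact congrArg CommaMorphism.left (ψ_injective h e he _ h2)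
  obtain ⟨R, hR, hsurj⟩ := hP₀.locallySurjective P₀ (𝟙 P₀)
  have hpt : ∀ ⦃U : Scheme.{u}⦄ (u : U ⟶ P₀.left), R u →
      ∃ x : AbDual.ovr P₀ u ⟶ Over.mk f, x ≫ a = AbDual.ovrHom P₀ u := by
    intro U u hu
    obtain ⟨c, hc, hφ⟩ := hsurj u hu
    obtain ⟨L, rfl, hL, halg⟩ := hc
    let T := AbDual.ovr P₀ u
    have hT := h.pull (sqT f T)
    have hI := isInvertible_sec h (origin e he T)
    have hM := Point.degOne_twist hT (psec (origin e he T)) (HilbD.Sec.sec_proj f T _ _) hL
      fun t => deg_zero_of_algTrivial hT hL t (halg t)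
    obtain ⟨x, hx⟩ := exists_point h hM
    refine ⟨x, ?_⟩
    rw [← qc_mul hL (TensorMod.Invertible.isInvertible_dual hI), qc_dual hI] at hx
    have hq : qc (Ax e LΔ x) (isInvertible_Ax h e he hLΔ x) = qc L hL := by
      rw [qc_Ax h e he hLΔ hΔ, ψ, eq_inv_of_mul_eq_one_right hx, div_inv_eq_mul]
      exact (mul_comm _ _).trans (inv_mul_cancel_right _ _)
    rw [← comp_abel h e he hLΔ hΔ P₀ φ₀ hP₀ x, φ_eq_of_qc P₀ φ₀ hP₀ _ hL
      (isPicZero_Ax h e he hLΔ hΔ x) ⟨L, rfl, hL, halg⟩ hq, hφ, Category.comp_id]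
  choose X hX using hpt
  let fam : Presieve.FamilyOfElements (yoneda.obj C) R := fun U u hu => (X u hu).left
  have hcompat : fam.Compatible := by
    intro Y₁ Y₂ Z g₁ g₂ u₁ u₂ h₁ h₂ hg
    let T : Over S := Over.mk (g₁ ≫ u₁ ≫ P₀.hom)
    let k₁ : T ⟶ AbDual.ovr P₀ u₁ := Over.homMk g₁ rfl
    let k₂ : T ⟶ AbDual.ovr P₀ u₂ := Over.homMk g₂ (by
      show g₂ ≫ u₂ ≫ P₀.hom = g₁ ≫ u₁ ≫ P₀.hom
      rw [← Category.assoc, ← hg, Category.assoc])
    refine congrArg CommaMorphism.left (mono (k₁ ≫ X u₁ h₁) (k₂ ≫ X u₂ h₂) ?_)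
    rw [Category.assoc, Category.assoc, hX, hX]
    exact Over.OverMorphism.ext hg
  obtain ⟨m, hm, -⟩ := sheaf C R hR fam hcompat
  have hma : m ≫ a.left = 𝟙 P₀.left := ext hR _ _ fun U u hu => by
    rw [← Category.assoc, show u ≫ m = (X u hu).left from hm u hu, Category.comp_id]
    exact congrArg CommaMorphism.left (hX u hu)
  have hmf : m ≫ f = P₀.hom := by
    calc m ≫ f = m ≫ a.left ≫ P₀.hom := by rw [show a.left ≫ P₀.hom = f from Over.w a]
      _ = P₀.hom := by rw [← Category.assoc, hma, Category.id_comp]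
  let m' : P₀ ⟶ Over.mk f := Over.homMk m hmf
  have ham : a ≫ m' = 𝟙 _ := mono _ _ (by
    rw [Category.assoc, show m' ≫ a = 𝟙 P₀ from Over.OverMorphism.ext hma, Category.comp_id, Category.id_comp])
  exact ⟨⟨m, congrArg CommaMorphism.left ham, hma⟩⟩

end Groth.Agent.H34.Elliptic.AbelIso
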