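import Groth.Agent.H34.Elliptic.Divisor
import Groth.Agent.H34.DegOneSection
import Groth.Agent.H34.AbelMono
import Groth.Agent.Lib.HilbD.Basic
import Groth.Agent.Lib.Curves.Degree

/-!
# A section of an invertible module of degree one cuts out a section of the family
-/

set_option autoImplicit false
set_option linter.style.haveILetI false
universe u

open CategoryTheory CategoryTheory.Limits AlgebraicGeometry Opposite TopologicalSpace

noncomputable section

namespace Groth.Agent.H34.Elliptic.DegOneDiv

open Groth.Agent Groth.Agent.Lib TensorMod TensorMod.Gen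

section Field

variable {k : Type u} [Field k] {X : Scheme.{u}} [X.Over (Spec (CommRingCat.of k))]

/-- A finite closed subscheme with one-dimensional functions is the spectrum of the base. -/
theorem isIso_of_hdim_quot (I : X.IdealSheafData) [IsAffine I.subscheme]
    (h : Curves.Euler.hdim k X (ClSub.quotMod I) 0 = 1) :
    IsIso (I.subschemeι ≫ (X ↘ Spec (CommRingCat.of k))) := by
  let q := I.subschemeι ≫ (X ↘ Spec (CommRingCat.of k))
  let φ : CommRingCat.of k ⟶ Γ(I.subscheme, ⊤) := (Scheme.ΓSpecIso (CommRingCat.of k)).inv ≫ q.appTop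
  letI := Curves.GlobalSections.secModule k (ClSub.quotMod I)
  have hfin : Module.finrank k ((ClSub.quotMod I).val.obj (op ⊤) : Type u) = 1 :=
    (Curves.GlobalSections.h0Linear k (ClSub.quotMod I)).finrank_eq.symm.trans h
  letI : Algebra k Γ(I.subscheme, ⊤) := φ.hom.toAlgebra
  let E : ((ClSub.quotMod I).val.obj (op ⊤) : Type u) ≃ₗ[k] Γ(I.subscheme, ⊤) :=
    { toFun := fun m => (show Γ(I.subscheme, I.subschemeι ⁻¹ᵁ ⊤) from m)
      invFun := fun m => (show Γ(I.subscheme, I.subschemeι ⁻¹ᵁ ⊤) from m)
      left_inv := fun _ => rfl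
      right_inv := fun _ => rfl
      map_add' := fun _ _ => rfl
      map_smul' := fun c m => rfl }
  have hfin' : Module.finrank k Γ(I.subscheme, ⊤) = 1 := E.finrank_eq.symm.trans hfin
  haveI : Nontrivial Γ(I.subscheme, ⊤) := Module.nontrivial_of_finrank_pos (R := k) (by omega)
  have hbij : Function.Bijective φ.hom := by
    refine ⟨φ.hom.injective, fun v => ?_⟩
    obtain ⟨c, hc⟩ := (finrank_eq_one_iff_of_nonzero' (1 : Γ(I.subscheme, ⊤)) one_ne_zero).1 hfin' v
    exact ⟨c, by rw [← hc, Algebra.smul_def, mul_one]; rfl⟩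
  haveI : IsIso φ := (ConcreteCategory.isIso_iff_bijective φ).2 hbij
  haveI : IsIso q.appTop := by
    rw [show q.appTop = (Scheme.ΓSpecIso (CommRingCat.of k)).hom ≫ φ by simp [φ]]
    infer_instance
  have h1 : q = I.subscheme.isoSpec.hom ≫ Spec.map q.appTop ≫ (Spec (CommRingCat.of k)).isoSpec.inv := by
    rw [Scheme.isoSpec_hom_naturality_assoc, Iso.hom_inv_id, Category.comp_id]
  show IsIso q
  rw [h1]
  infer_instance

end Field

attribute [local instance] CanonFam.fibOver

variable {C S : Scheme.{u}} (f : C ⟶ S) [IsProper f] [Smooth f] [GeometricallyConnected f]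
  (hdim : ∀ s : S, topologicalKrullDim ↥(f.fiber s) = 1)
  (hg : ∀ s : S, CohIII.fiberRank f (Coh.structureModule C) 1 s = 1)
  {M : C.Modules} (hM : PicF.IsInvertible M)
  (hdeg : ∀ s : S, (CohIII.fiberRank f M 0 s : ℤ) - CohIII.fiberRank f M 1 s = 1)

include hdim hg hdeg hM in
/-- The fibres of `M` have degree one. -/
theorem deg_fibre (y : S) : Curv2.deg (S.residueField y) (f.fiber y) (CohIII.fiberMod f M y) 1 = 1 := by
  haveI := CanonFam.isIntegral f hdim y
  have h := Curves.Degree.riemann_roch (k := S.residueField y) (hdim y).le (CanonFam.h0 f hdim y)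
    (show PicF.IsInvertible (CohIII.fiberMod f M y) from PicLoc.isInvertible_pullback _ hM)
  have hgen : CohIII.fiberRank f (Coh.structureModule C) 1 y =
      Curv2.genus (S.residueField y) (f.fiber y) :=
    Curves.Euler.hdim_eq_of_iso (k := S.residueField y) (PicLoc.pullbackStructureIso (f.fiberι y)) 1
  rw [← hgen, hg y] at h
  have h' : (CohIII.fiberRank f M 0 y : ℤ) - CohIII.fiberRank f M 1 y =
      Curv2.deg (S.residueField y) (f.fiber y) (CohIII.fiberMod f M y) 1 + 1 - ((1 : ℕ) : ℤ) := h
  have := hdeg y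
  push_cast at h'
  linarith

variable (t : Coh.structureModule C ⟶ M)
  (hne : ∀ y : S, haveI := CanonFam.isIntegral f hdim y
    f.fiberι y (genericPoint (f.fiber y)) ∈ CohB1.genLocus M t)

include hdim hg hdeg hM hne in
/-- The zero scheme is a section. -/
theorem exists_section :
    ∃ x : S ⟶ C, x ≫ f = 𝟙 S ∧
      Nonempty (CohB1.tensorMod M (ClSub.idealMod x.ker) ≅ Coh.structureModule C) := by
  haveI := AbelMono.smooth_relDim_one f hdim
  obtain ⟨J, hJ, ⟨e⟩, hsupp, hflat⟩ :=
    Divisor.exists_divisor f t (CanonFam.isIntegral f hdim) hM hne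
  let π := J.subschemeι ≫ f
  haveI : Flat π := hflat
  haveI : LocallyQuasiFinite π := RelDiv.Cartier.locallyQuasiFinite_of_isEffCartier f hJ
  haveI : IsProper π := inferInstanceAs (IsProper (J.subschemeι ≫ f))
  haveI : IsFinite π := IsFinite.of_isProper_of_locallyQuasiFinite π
  haveI : LocallyOfFinitePresentation π := RelDiv.Cartier.lfp_of_isEffCartier f hJ
  have hI : PicF.IsInvertible (ClSub.idealMod J) := TensorInv.isInvertible_of_tensor_iso (TensorMod.Basic.comm _ _ ≪≫ e)
  have hfib : ∀ y : S, π.finrank y = 1 := by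
    intro y
    haveI := CanonFam.isIntegral f hdim y
    let g := f.fiberι y
    have hgp : genericPoint (f.fiber y) ∉ ((J.comap g).support : Set (f.fiber y)) := by
      rw [Scheme.IdealSheafData.support_comap]
      exact fun h => (hsupp _).1 h (hne y)
    have hJy : ∀ (U : C.affineOpens) (s : Γ(C, U.1)), s ∈ nonZeroDivisors Γ(C, U.1) →
        J.ideal U = _root_.Ideal.span {s} → ∀ z (hz : z ∈ g ⁻¹ᵁ U.1),
          (f.fiber y).presheaf.germ _ z hz (g.app U.1 s) ∈ nonZeroDivisors ((f.fiber y).presheaf.stalk z) := by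
      intro U s _ hs z hz
      rw [mem_nonZeroDivisors_iff_ne_zero]
      intro h0
      haveI : Nonempty (g ⁻¹ᵁ U.1) := ⟨⟨z, hz⟩⟩
      have hs0 : g.app U.1 s = 0 := by
        apply germ_injective_of_isIntegral (f.fiber y) z hz
        rw [h0, map_zero]
      have hηU : genericPoint (f.fiber y) ∈ g ⁻¹ᵁ U.1 :=
        (genericPoint_specializes z).mem_open (Opens.isOpen _) hz
      have hnot : g (genericPoint (f.fiber y)) ∉ J.support := fun h => (hsupp _).1 h (hne y)
      rw [Lib.Ideal.Prime.mem_support_iff_le_prime J U hηU, hs, _root_.Ideal.span_singleton_le_iff_mem,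
        ← Lib.Ideal.EffCartier.mem_basicOpen_iff_notMem_prime U.2 hηU] at hnot
      have h1 : genericPoint (f.fiber y) ∈ (f.fiber y).basicOpen (g.app U.1 s) := by
        rw [← Scheme.preimage_basicOpen]; exact hnot
      rw [hs0, Scheme.basicOpen_zero] at h1
      exact h1
    obtain ⟨iJ⟩ := ModelFibre.IdealPull.nonempty_pullback_idealMod g hJ hJy
    have hIy : PicF.IsInvertible (ClSub.idealMod (J.comap g)) :=
      TensorMod.Invertible.isInvertible_of_iso iJ (PicLoc.isInvertible_pullback g hI)
    have hLy : PicF.IsInvertible (CohIII.fiberMod f M y) := PicLoc.isInvertible_pullback g hM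
    let ee : CohB1.tensorMod (CohIII.fiberMod f M y) (ClSub.idealMod (J.comap g)) ≅
        Coh.structureModule (f.fiber y) :=
      TensorMod.Basic.tensorIso (Iso.refl _) iJ.symm ≪≫ (TensorMod.Pullback.pullbackTensorIso g _ _).symm ≪≫
        (Scheme.Modules.pullback g).mapIso e ≪≫ PicLoc.pullbackStructureIso g
    have hq : Curves.Euler.hdim (S.residueField y) (f.fiber y) (ClSub.quotMod (J.comap g)) 0 = 1 := by
      have h := Curves.Degree.deg_tensor (k := S.residueField y) (hdim y).le hLy hIy
      rw [Curves.Euler.deg_eq_of_iso ee, Curves.Degree.deg_structureModule,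
        deg_fibre f hdim hg hM hdeg y, Curves.Degree.deg_idealMod (hdim y).le hIy hgp] at h
      omega
    have hsq : IsPullback (HilbD.Basic.comapMap g J) ((J.comap g).subschemeι ≫ f.fiberToSpecResidueField y) π
        (S.fromSpecResidueField y) :=
      HilbD.Basic.isPullback_comap_proj (IsPullback.of_hasPullback f (S.fromSpecResidueField y)) J
    haveI : IsFinite ((J.comap g).subschemeι ≫ f.fiberToSpecResidueField y) :=
      MorphismProperty.of_isPullback hsq ‹IsFinite π›
    haveI : IsAffine (J.comap g).subscheme :=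
      isAffine_of_isAffineHom ((J.comap g).subschemeι ≫ f.fiberToSpecResidueField y)
    haveI : IsIso ((J.comap g).subschemeι ≫ f.fiberToSpecResidueField y) :=
      isIso_of_hdim_quot (k := S.residueField y) (J.comap g) hq
    let p : Spec (S.residueField y) := IsLocalRing.closedPoint (S.residueField y)
    have h := Scheme.Hom.finrank_of_isPullback _ _ _ _ hsq p
    rw [Scheme.fromSpecResidueField_apply, Scheme.Hom.finrank_eq_one_of_isIso] at h
    exact h.symm
  haveI : IsIso π := (Scheme.Hom.isIso_iff_finrank_eq π).mpr (funext fun y => hfib y)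
  refine ⟨inv π ≫ J.subschemeι, by rw [Category.assoc]; exact IsIso.inv_hom_id π, ?_⟩
  rw [Scheme.Hom.ker_comp_of_isIso, Scheme.IdealSheafData.ker_subschemeι]
  exact ⟨e⟩

end Groth.Agent.H34.Elliptic.DegOneDiv
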