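import Groth.Agent.H26.ZeroFrame
import Groth.Agent.H4.CartierSection
import Groth.Agent.Lib.Flat55.Slicing
import Groth.Agent.Lib.Flat55.FibrewiseScheme
import Groth.Agent.Lib.RelDiv.Cartier
import Groth.Agent.Lib.Ideal.EffCartier
import Groth.Agent.Lib.Ample.GenLocus
import Groth.Agent.H46.FiberStalk
import Groth.Agent.Lib.Cube.FibreGen

/-!
# The divisor of a section of an invertible module that is nonzero on every fibre
-/

set_option autoImplicit false
set_option linter.style.haveILetI false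
universe u

open CategoryTheory CategoryTheory.Limits AlgebraicGeometry Opposite TopologicalSpace

noncomputable section

namespace Groth.Agent.H34.Elliptic.Divisor

open Groth.Agent Groth.Agent.Lib TensorMod TensorMod.Dual TensorMod.Gen TensorMod.HomGlue
open Ample.GenLocus
open Groth.Agent.H95.ZeroSch (Frame coord coord_smul exists_frame)

variable {X S : Scheme.{u}} (f : X ⟶ S) {M : X.Modules} (t : Coh.structureModule X ⟶ M)

/-- The coordinate of the section in a frame. -/
abbrev co (F : Frame M) : Γ(X, F.V.1) := coord F (SecTwist.val t F.V.1)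

theorem co_smul (F : Frame M) : co t F • F.e = sv t F.V.1 := coord_smul F _

/-- The frame on a smaller affine open. -/
abbrev resFrame (F : Frame M) (V : X.affineOpens) (h : V.1 ≤ F.V.1) : Frame M := ⟨V, _, F.he.res h⟩

/-- Coordinates restrict. -/
theorem co_res (F : Frame M) (V : X.affineOpens) (h : V.1 ≤ F.V.1) :
    co t (resFrame F V h) = rf h (co t F) := by
  refine ((resFrame F V h).he V.1 le_rfl).1 ?_
  have h1 : (co t (resFrame F V h) : Γ(X, V.1)) • rs M h F.e = sv t V.1 := co_smul t (resFrame F V h)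
  have h2 := congrArg (rs M h) (co_smul t F)
  rw [rs_smul, rs_sv] at h2
  show (co t (resFrame F V h) : Γ(X, V.1)) • rs M le_rfl (rs M h F.e) =
    rf h (co t F) • rs M le_rfl (rs M h F.e)
  rw [rs_self, h1, h2]

/-- The locus of the section in a frame is where the coordinate is invertible. -/
theorem mem_genLocus_iff_basicOpen (F : Frame M) {z : X} (hz : z ∈ F.V.1) :
    z ∈ CohB1.genLocus M t ↔ z ∈ X.basicOpen (co t F) := by
  constructor
  · intro h
    obtain ⟨U, hzU, hU⟩ := (mem_genLocus_iff t).1 h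
    have h1 : rs M (inf_le_right : U ⊓ F.V.1 ≤ F.V.1) (co t F • F.e) = sv t _ := by
      rw [co_smul]; exact rs_sv t _
    rw [rs_smul] at h1
    have h2 : IsGen M (U ⊓ F.V.1) (rf (inf_le_right : U ⊓ F.V.1 ≤ F.V.1) (co t F) • rs M (inf_le_right : U ⊓ F.V.1 ≤ F.V.1) F.e) := by
      rw [h1, ← rs_sv t (inf_le_left : U ⊓ F.V.1 ≤ U)]
      exact hU.res inf_le_left
    have h3 := isUnit_of_isGen_smul (F.he.res (inf_le_right : U ⊓ F.V.1 ≤ F.V.1)) h2
    have h4 : z ∈ X.basicOpen (rf (inf_le_right : U ⊓ F.V.1 ≤ F.V.1) (co t F)) := by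
      rw [X.basicOpen_of_isUnit h3]; exact ⟨hzU, hz⟩
    have h5 : X.basicOpen (rf (inf_le_right : U ⊓ F.V.1 ≤ F.V.1) (co t F)) =
        (U ⊓ F.V.1) ⊓ X.basicOpen (co t F) :=
      Scheme.basicOpen_res X (co t F) (homOfLE (inf_le_right : U ⊓ F.V.1 ≤ F.V.1)).op
    rw [h5] at h4
    exact h4.2
  · intro h
    refine le_genLocus ?_ h
    have h1 := congrArg (rs M (X.basicOpen_le (co t F))) (co_smul t F)
    rw [rs_smul, rs_sv] at h1
    rw [← h1]
    exact IsGen_smul_isUnit (F.he.res (X.basicOpen_le _))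
      (X.toRingedSpace.isUnit_res_basicOpen (co t F))

variable [IsProper f] [LocallyOfFinitePresentation f] [Flat f]
  (hint : ∀ y : S, IsIntegral (f.fiber y)) (hM : PicF.IsInvertible M)
  (hne : ∀ y : S, haveI := hint y; f.fiberι y (genericPoint (f.fiber y)) ∈ CohB1.genLocus M t)

include hint hne in
/-- The coordinate does not vanish at any point of any fibre. -/
theorem app_fibre_ne_zero (y : S) (a : f.fiber y) (F : Frame M) (ha : f.fiberι y a ∈ F.V.1) :
    (f.fiber y).presheaf.germ _ a ha ((f.fiberι y).app F.V.1 (co t F)) ≠ 0 := by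
  haveI := hint y
  intro h0
  haveI : Nonempty ((f.fiberι y) ⁻¹ᵁ F.V.1) := ⟨⟨a, ha⟩⟩
  have hs0 : (f.fiberι y).app F.V.1 (co t F) = 0 := by
    apply germ_injective_of_isIntegral (f.fiber y) a ha
    rw [h0, map_zero]
  have hη : genericPoint (f.fiber y) ∈ (f.fiberι y) ⁻¹ᵁ F.V.1 :=
    (genericPoint_specializes a).mem_open (Opens.isOpen _) ha
  have h1 : genericPoint (f.fiber y) ∈ (f.fiber y).basicOpen ((f.fiberι y).app F.V.1 (co t F)) := by
    rw [← Scheme.preimage_basicOpen]
    exact (mem_genLocus_iff_basicOpen t F hη).1 (hne y)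
  rw [hs0, Scheme.basicOpen_zero] at h1
  exact h1

include hint hne in
/-- The coordinate is regular on the fibre through a point of its zero locus. -/
theorem germ_mod_regular (F : Frame M) (x : X) (hx : x ∈ F.V.1) :
    Ideal.Quotient.mk (Ideal.map (f.stalkMap x).hom
        (IsLocalRing.maximalIdeal (S.presheaf.stalk (f x)))) (X.presheaf.germ F.V.1 x hx (co t F)) ∈
      nonZeroDivisors (X.presheaf.stalk x ⧸ Ideal.map (f.stalkMap x).hom
        (IsLocalRing.maximalIdeal (S.presheaf.stalk (f x)))) := by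
  have key : ∀ (y : S) (a : f.fiber y) (hx : f.fiberι y a ∈ F.V.1),
      Ideal.Quotient.mk (Ideal.map (f.stalkMap (f.fiberι y a)).hom
        (IsLocalRing.maximalIdeal (S.presheaf.stalk (f (f.fiberι y a)))))
          (X.presheaf.germ F.V.1 _ hx (co t F)) ∈ nonZeroDivisors _ := by
    intro y a hx
    haveI := hint y
    rw [← H46.FiberStalk.ker_stalkMap_fiberι f y a]
    haveI : (RingHom.ker ((f.fiberι y).stalkMap a).hom).IsPrime := RingHom.ker_isPrime _
    rw [mem_nonZeroDivisors_iff_ne_zero, Ne, Ideal.Quotient.eq_zero_iff_mem, RingHom.mem_ker,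
      Scheme.Hom.germ_stalkMap_apply]
    exact app_fibre_ne_zero f t hint hne y a F hx
  suffices h : ∀ (y : S) (a : f.fiber y), f.fiberι y a = x → Ideal.Quotient.mk _
      (X.presheaf.germ F.V.1 x hx (co t F)) ∈ nonZeroDivisors (X.presheaf.stalk x ⧸
        Ideal.map (f.stalkMap x).hom (IsLocalRing.maximalIdeal (S.presheaf.stalk (f x)))) by
    obtain ⟨a, ha⟩ : x ∈ Set.range (f.fiberι (f x)) := by rw [f.range_fiberι]; rfl
    exact h _ a ha
  rintro y a rfl
  exact key y a hx

include hint hM hne in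
/-- The zero scheme is cut out near every point by a regular element, and is flat over the base. -/
theorem exists_good_frame (x : X) :
    ∃ F : Frame M, x ∈ F.V.1 ∧ co t F ∈ nonZeroDivisors Γ(X, F.V.1) ∧
      (x ∉ CohB1.genLocus M t → ∃ (V : S.affineOpens) (e : F.V.1 ≤ f ⁻¹ᵁ V.1),
        ((Ideal.Quotient.mk (Ideal.span {co t F})).comp (f.appLE V.1 F.V.1 e).hom).Flat) := by
  by_cases hx : x ∈ CohB1.genLocus M t
  · obtain ⟨F, hxF, -⟩ := exists_frame hM (show x ∈ (⊤ : X.Opens) from trivial)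
    have hb := (mem_genLocus_iff_basicOpen t F hxF).1 hx
    let G : Frame M := resFrame F (X.affineBasicOpen (co t F)) (X.basicOpen_le _)
    refine ⟨G, hb, ?_, fun h => absurd hx h⟩
    rw [show co t G = rf (X.basicOpen_le (co t F)) (co t F) from co_res t F _ (X.basicOpen_le _)]
    exact (X.toRingedSpace.isUnit_res_basicOpen (co t F)).mem_nonZeroDivisors
  obtain ⟨V, hV, hxV, -⟩ := exists_isAffineOpen_mem_and_subset (X := S) (x := f x) (U := ⊤) trivial
  obtain ⟨F, hxF, hFV⟩ := exists_frame hM (show x ∈ f ⁻¹ᵁ V from hxV)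
  let U := F.V.1
  have hU : IsAffineOpen U := F.V.2
  let φ : Γ(S, V) →+* Γ(X, U) := (f.appLE V U hFV).hom
  let : Algebra Γ(S, V) Γ(X, U) := φ.toAlgebra
  have : Algebra.FinitePresentation Γ(S, V) Γ(X, U) :=
    HasRingHomProperty.appLE @LocallyOfFinitePresentation f inferInstance ⟨V, hV⟩ ⟨U, hU⟩ hFV
  let _ := TopCat.Presheaf.algebra_section_stalk S.presheaf (⟨f x, hxV⟩ : V)
  let _ := TopCat.Presheaf.algebra_section_stalk X.presheaf (⟨x, hxF⟩ : U)
  have := hV.isLocalization_stalk ⟨f x, hxV⟩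
  have := hU.isLocalization_stalk ⟨x, hxF⟩
  let : Algebra (S.presheaf.stalk (f x)) (X.presheaf.stalk x) := (f.stalkMap x).hom.toAlgebra
  have : IsLocalHom (algebraMap (S.presheaf.stalk (f x)) (X.presheaf.stalk x)) :=
    ⟨fun a ha ↦ isUnit_of_map_unit (f.stalkMap x).hom a ha⟩
  have : Module.Flat (S.presheaf.stalk (f x)) (X.presheaf.stalk x) :=
    (Flat.iff_flat_stalkMap f).1 ‹Flat f› x
  have hP : co t F ∈ (hU.primeIdealOf ⟨x, hxF⟩).asIdeal := by
    by_contra hP
    exact hx ((mem_genLocus_iff_basicOpen t F hxF).2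
      ((Lib.Ideal.EffCartier.mem_basicOpen_iff_notMem_prime hU hxF _).2 hP))
  obtain ⟨a, ha, hslice⟩ := Flat55.Slicing.exists_slice (R := Γ(S, V)) (C := Γ(X, U))
    (R' := S.presheaf.stalk (f x)) (C' := X.presheaf.stalk x)
    (hV.primeIdealOf ⟨f x, hxV⟩).asIdeal (hU.primeIdealOf ⟨x, hxF⟩).asIdeal
    (fun r ↦ Flat55.FibrewiseScheme.germ_appLE f hFV hxF r) (co t F) hP
    (germ_mod_regular f t hint hne F x hxF)
  have hxD : x ∈ X.basicOpen a := by
    rw [X.mem_basicOpen a x hxF]
    exact IsLocalization.map_units (X.presheaf.stalk x)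
      (⟨a, ha⟩ : (hU.primeIdealOf ⟨x, hxF⟩).asIdeal.primeCompl)
  have := hU.isLocalization_basicOpen a
  obtain ⟨hnzd, hfl⟩ := hslice Γ(X, X.basicOpen a)
  let G : Frame M := resFrame F (X.affineBasicOpen a) (X.basicOpen_le a)
  have hG : co t G = rf (X.basicOpen_le a) (co t F) := co_res t F _ (X.basicOpen_le a)
  refine ⟨G, hxD, ?_, fun _ => ⟨⟨V, hV⟩, (X.basicOpen_le a).trans hFV, ?_⟩⟩
  · rw [hG]; exact hnzd
  · rw [hG]
    have happ : (f.appLE V (X.basicOpen a) ((X.basicOpen_le a).trans hFV)).hom =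
        (algebraMap Γ(X, U) Γ(X, X.basicOpen a)).comp φ := by
      rw [← Scheme.Hom.appLE_map (f := f) (i := (homOfLE (X.basicOpen_le a)).op) (e := hFV)]
      rfl
    show ((Ideal.Quotient.mk _).comp (f.appLE V (X.basicOpen a) _).hom).Flat
    rw [happ]
    exact hfl

include hint hM hne in
/-- The divisor of the section. -/
theorem exists_divisor :
    ∃ J : X.IdealSheafData, BlowUp.IsEffCartierIdeal J ∧
      Nonempty (CohB1.tensorMod M (ClSub.idealMod J) ≅ Coh.structureModule X) ∧
      (∀ x : X, x ∈ J.support ↔ x ∉ CohB1.genLocus M t) ∧ Flat (J.subschemeι ≫ f) := by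
  let J := PicF2.zeroScheme M t
  have hid : ∀ F : Frame M, J.ideal F.V = Ideal.span {co t F} := H26.ZeroFrame.zeroScheme_ideal_eq hM t
  choose F hxF hF hfl using exists_good_frame f t hint hM hne
  refine ⟨J, fun x => ⟨(F x).V, hxF x, _, hF x, hid _⟩, ?_, fun x => ?_, ?_⟩
  · choose m hm using fun x => (Lib.ClSub.Sections.mem_range_idealModι_app_affine_iff J (F x).V (co t (F x))).mpr
      ((hid (F x)) ▸ Ideal.mem_span_singleton_self _)
    have hmg := fun x => H4.CartierSection.isGen_idealMod J (F x).V _ (hF x) (hid _) (m x) (hm x)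
    let V : X → X.Opens := fun x => (F x).V.1
    have hsup : iSup V = ⊤ := top_unique fun x _ => Opens.mem_iSup.2 ⟨x, hxF x⟩
    obtain ⟨φ, -⟩ := HomGlue.exists_iso_of_gen (L := Coh.structureModule X)
      (M := CohB1.tensorMod M (ClSub.idealMod J)) hsup
      (fun x => TensorMod.Gen.one X (V x)) (fun x => isGen_one _)
      (fun x => SecTwist.tmul M (ClSub.idealMod J) (V x) (F x).e (m x))
      (fun x => isGen_tmul (F x).he (hmg x)) fun i j W hi hj c hc => by
      obtain rfl : c = 1 := by
        have : (X.presheaf.map (homOfLE hi).op 1 : Γ(X, W)) = c * X.presheaf.map (homOfLE hj).op 1 := hc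
        rwa [map_one, map_one, mul_one, eq_comm] at this
      rw [one_smul, rs_tmul, rs_tmul]
      obtain ⟨u, hu⟩ := exists_coord ((F j).he.res hj) (rs M hi (F i).e)
      obtain ⟨v, hv⟩ := exists_coord ((hmg j).res hj) (rs (ClSub.idealMod J) hi (m i))
      have hnat : ∀ (k : X) (hk : W ≤ V k),
          (ClSub.idealModι J).app W (rs (ClSub.idealMod J) hk (m k)) = rf hk (co t (F k)) := fun k hk => by
        rw [← hm k]
        exact Lib.ClSub.Basis.map_app (ClSub.idealModι J) hk (m k)
      have h1 : rf hi (co t (F i)) = v * rf hj (co t (F j)) := by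
        have h := congrArg ((ClSub.idealModι J).app W) hv
        rw [Scheme.Modules.Hom.app_smul, hnat i hi, hnat j hj] at h
        exact h
      have h2 : rf hi (co t (F i)) * u = rf hj (co t (F j)) := by
        have e1 := congrArg (rs M hi) (co_smul t (F i))
        have e2 := congrArg (rs M hj) (co_smul t (F j))
        rw [rs_smul, rs_sv, hu, ← mul_smul] at e1
        rw [rs_smul, rs_sv] at e2
        exact ((F j).he W hj).1 (e1.trans e2.symm)
      have h3 : u * v = 1 := by
        have h4 : (u * v - 1) * rf hj (co t (F j)) = 0 := by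
          rw [sub_mul, one_mul, mul_assoc, ← h1, mul_comm u, h2, sub_self]
        exact sub_eq_zero.1 (mem_nonZeroDivisors_iff_right.1
          (Lib.Ideal.EffCartier.res_mem_nonZeroDivisors (F j).V.2 hj (hF j)) _ h4)
      rw [hu, hv, tmul_smul, h3, one_smul]
    exact ⟨φ.symm⟩
  · rw [mem_genLocus_iff_basicOpen t (F x) (hxF x),
      Lib.Ideal.EffCartier.mem_basicOpen_iff_notMem_prime (F x).V.2 (hxF x), not_not,
      Lib.Ideal.Prime.mem_support_iff_le_prime J (F x).V (hxF x), hid, Ideal.span_singleton_le_iff_mem]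
  · rw [HasRingHomProperty.iff_exists_appLE (P := @Flat) (Q := @RingHom.Flat)
      (RingHom.Flat.stableUnderComposition.stableUnderCompositionWithLocalizationAway
        RingHom.Flat.holdsForLocalizationAway).1]
    intro z
    have hz : J.subschemeι z ∉ CohB1.genLocus M t := by
      intro h
      have hmem : J.subschemeι z ∈ J.support := J.range_subschemeι.le ⟨z, rfl⟩
      rw [Lib.Ideal.Prime.mem_support_iff_le_prime J (F _).V (hxF (J.subschemeι z)), hid,
        Ideal.span_singleton_le_iff_mem] at hmem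
      exact (Lib.Ideal.EffCartier.mem_basicOpen_iff_notMem_prime (F _).V.2 (hxF (J.subschemeι z)) _).1
        ((mem_genLocus_iff_basicOpen t (F _) (hxF _)).1 h) hmem
    obtain ⟨V, e, h⟩ := hfl (J.subschemeι z) hz
    refine ⟨V, ⟨J.subschemeι ⁻¹ᵁ (F (J.subschemeι z)).V.1, (F (J.subschemeι z)).V.2.preimage J.subschemeι⟩,
      hxF (J.subschemeι z), fun _ hw => e hw,
      (RelDiv.Cartier.appLE_subscheme f J RingHom.Flat.respectsIso V.1 (F (J.subschemeι z)).V e).mpr ?_⟩
    rw [hid]
    exact h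

end Groth.Agent.H34.Elliptic.Divisor
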