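import Groth.Agent.H34.Elliptic.Unique
import Groth.Agent.H34.PicDegree
import Groth.Agent.Lib.HilbD.Sec
import Mathlib.CategoryTheory.Monoidal.Cartesian.Over
import Mathlib.CategoryTheory.Monoidal.Cartesian.Grp

/-!
# The group law on a family of genus one with a section
-/

set_option autoImplicit false
set_option linter.style.haveILetI false
universe u

open CategoryTheory CategoryTheory.Limits AlgebraicGeometry Opposite TopologicalSpace

noncomputable section

namespace Groth.Agent.H34.Elliptic.Group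

open Groth.Agent Groth.Agent.Lib TensorMod.Pullback PicGrp MonoidalCategory
open scoped CategoryTheory.MonObj

local instance (Y : Scheme.{u}) : PicGrp.Law Y := TensorMod.Invertible.law Y

variable {C S : Scheme.{u}} {f : C ⟶ S} (h : Point.Fam f) (σ : S ⟶ C) (hσ : σ ≫ f = 𝟙 S)

theorem sqT (f : C ⟶ S) (T : Over S) :
    IsPullback (pullback.fst f T.hom) (PicF.XTproj f T) f T.hom :=
  IsPullback.of_hasPullback f T.hom

/-- The section given by a point. -/
abbrev psec {T : Over S} (P : T ⟶ Over.mk f) : T.left ⟶ PicF.XT f T :=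
  HilbD.Sec.sec f T P.left (Over.w P)

/-- The origin. -/
abbrev origin (T : Over S) : T ⟶ Over.mk f :=
  Over.homMk (T.hom ≫ σ) (by
    show (T.hom ≫ σ) ≫ f = T.hom
    rw [Category.assoc, hσ, Category.comp_id])

include h in
theorem isInvertible_sec {T : Over S} (P : T ⟶ Over.mk f) :
    PicF.IsInvertible (ClSub.idealMod (psec P).ker) :=
  Lib.ClSub.Cartier.isInvertible_idealMod
    (Point.isEffCartier_sec (h.pull (sqT f T)) (psec P) (HilbD.Sec.sec_proj f T _ _))

/-- The modules coming from the base. -/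
def base (f : C ⟶ S) (T : Over S) : Subgroup (PicLoc.PicSet (PicF.XT f T)) where
  carrier := {c | ∃ (M : T.left.Modules) (hM : PicF.IsInvertible M),
    c = cls ((Scheme.Modules.pullback (PicF.XTproj f T)).obj M) (PicLoc.isInvertible_pullback _ hM)}
  mul_mem' := by
    rintro a b ⟨M, hM, rfl⟩ ⟨N, hN, rfl⟩
    refine ⟨_, TensorMod.Invertible.isInvertible_tensorMod hM hN, Subtype.ext ?_⟩
    rw [cls_mul_cls_val, cls_val, cl_eq_cl_iff]
    exact ⟨(pullbackTensorIso _ M N).symm⟩
  one_mem' := ⟨_, PicLoc.isInvertible_structureModule _, by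
    rw [← cls_structureModule_eq_one, cls_eq_cls_iff]
    exact ⟨(PicLoc.pullbackStructureIso _).symm⟩⟩
  inv_mem' := by
    rintro a ⟨M, hM, rfl⟩
    refine ⟨_, TensorMod.Invertible.isInvertible_dual hM, cls_inv_eq_cls _ _ ?_⟩
    exact ⟨(pullbackTensorIso _ M _).symm ≪≫
      (Scheme.Modules.pullback _).mapIso (TensorMod.Invertible.tensorDualIso hM) ≪≫
      PicLoc.pullbackStructureIso _⟩

/-- The classes modulo the base. -/
abbrev Q (f : C ⟶ S) (T : Over S) : Type (u + 1) := PicLoc.PicSet (PicF.XT f T) ⧸ base f T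

/-- The class of a module modulo the base. -/
abbrev qc {T : Over S} (L : (PicF.XT f T).Modules) (hL : PicF.IsInvertible L) : Q f T :=
  QuotientGroup.mk (cls L hL)

theorem qc_eq_iff {T : Over S} {L L' : (PicF.XT f T).Modules} (hL : PicF.IsInvertible L)
    (hL' : PicF.IsInvertible L') :
    qc L hL = qc L' hL' ↔ ∃ M : T.left.Modules, PicF.IsInvertible M ∧
      Nonempty (L ≅ CohB1.tensorMod L' ((Scheme.Modules.pullback (PicF.XTproj f T)).obj M)) := by
  rw [eq_comm, qc, qc, QuotientGroup.eq]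
  constructor
  · rintro ⟨M, hM, hc⟩
    refine ⟨M, hM, ?_⟩
    rw [inv_mul_eq_iff_eq_mul] at hc
    rw [← cl_eq_cl_iff, ← cls_mul_cls_val hL' (PicLoc.isInvertible_pullback _ hM), ← hc]
    rfl
  · rintro ⟨M, hM, e⟩
    refine ⟨M, hM, ?_⟩
    rw [inv_mul_eq_iff_eq_mul]
    apply Subtype.ext
    rw [cls_mul_cls_val, cls_val, cl_eq_cl_iff]
    exact e

theorem qc_mul {T : Over S} {L L' : (PicF.XT f T).Modules} (hL : PicF.IsInvertible L)
    (hL' : PicF.IsInvertible L') :
    qc L hL * qc L' hL' = qc (CohB1.tensorMod L L') (TensorMod.Invertible.isInvertible_tensorMod hL hL') := by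
  rw [qc, qc, qc, ← QuotientGroup.mk_mul]
  exact congrArg _ (Subtype.ext (cls_mul_cls_val hL hL'))

theorem qc_dual {T : Over S} {L : (PicF.XT f T).Modules} (hL : PicF.IsInvertible L) :
    qc (TensorMod.Dual.dual L) (TensorMod.Invertible.isInvertible_dual hL) = (qc L hL)⁻¹ := by
  rw [qc, qc, ← QuotientGroup.mk_inv]
  exact congrArg _ (cls_inv_eq_cls hL _ ⟨TensorMod.Invertible.tensorDualIso hL⟩).symm

/-- The class `O(P) / O(σ)` of a point. -/
def ψ {T : Over S} (P : T ⟶ Over.mk f) : Q f T :=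
  qc _ (isInvertible_sec h (origin σ hσ T)) / qc _ (isInvertible_sec h P)

/-- The relation of the group law. -/
def Rel {T : Over S} (P Q R : T ⟶ Over.mk f) : Prop :=
  ∃ M : T.left.Modules, PicF.IsInvertible M ∧
    Nonempty (CohB1.tensorMod (ClSub.idealMod (psec P).ker) (ClSub.idealMod (psec Q).ker) ≅
      CohB1.tensorMod (CohB1.tensorMod (ClSub.idealMod (psec R).ker)
          (ClSub.idealMod (psec (origin σ hσ T)).ker))
        ((Scheme.Modules.pullback (PicF.XTproj f T)).obj M))

theorem rel_iff {T : Over S} (P Q R : T ⟶ Over.mk f) :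
    Rel σ hσ P Q R ↔ ψ h σ hσ P * ψ h σ hσ Q = ψ h σ hσ R := by
  rw [Rel, ← qc_eq_iff (TensorMod.Invertible.isInvertible_tensorMod (isInvertible_sec h P) (isInvertible_sec h Q))
    (TensorMod.Invertible.isInvertible_tensorMod (isInvertible_sec h R) (isInvertible_sec h (origin σ hσ T))),
    ← qc_mul (isInvertible_sec h P) (isInvertible_sec h Q),
    ← qc_mul (isInvertible_sec h R) (isInvertible_sec h (origin σ hσ T)), ψ, ψ, ψ, div_mul_div_comm, div_eq_div_iff_mul_eq_mul]
  constructor
  · intro e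
    rw [e, mul_comm (qc _ (isInvertible_sec h R)), mul_assoc]
  · intro e
    rw [mul_assoc, mul_right_inj] at e
    rw [mul_comm (qc _ (isInvertible_sec h R)), e]

theorem ψ_origin (T : Over S) : ψ h σ hσ (origin σ hσ T) = 1 := div_self' _

include h in
theorem ψ_injective (T : Over S) : Function.Injective (ψ (T := T) h σ hσ) := by
  intro P P' e
  rw [ψ, ψ, div_right_inj] at e
  obtain ⟨N, hN, ⟨i⟩⟩ := (qc_eq_iff _ _).1 e
  have hI := isInvertible_sec h P'
  let D := TensorMod.Dual.dual (ClSub.idealMod (psec P').ker)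
  have hk : psec P = psec P' := by
    refine Point.eq_of_twist_iso (h.pull (sqT f T)) (TensorMod.Invertible.isInvertible_dual hI)
      (HilbD.Sec.sec_proj f T _ _) (HilbD.Sec.sec_proj f T _ _)
      (PicLoc.isInvertible_structureModule T.left) hN
      (TensorMod.Basic.comm _ _ ≪≫ TensorMod.Invertible.tensorDualIso hI ≪≫
        (PicLoc.pullbackStructureIso _).symm)
      (TensorMod.Basic.tensorIso (Iso.refl D) i ≪≫ (TensorMod.Basic.assoc _ _ _).symm ≪≫
        TensorMod.Basic.tensorIso (TensorMod.Basic.comm _ _ ≪≫ TensorMod.Invertible.tensorDualIso hI) (Iso.refl _) ≪≫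
        TensorMod.Basic.leftUnit _)
  refine Over.OverMorphism.ext ?_
  have h2 := congrArg (· ≫ pullback.fst f T.hom) hk
  simpa only [HilbD.Sec.sec_fst] using h2

include h in
/-- A class of degree one is inverse to the ideal of a point. -/
theorem exists_point {T : Over S} {M : (PicF.XT f T).Modules}
    (hM : Point.DegOne (PicF.XTproj f T) M) :
    ∃ R : T ⟶ Over.mk f, qc M hM.inv * qc _ (isInvertible_sec h R) = 1 := by
  obtain ⟨z, hz, N, hN, ⟨e⟩⟩ := Point.exists_point (h.pull (sqT f T)) hM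
  let R : T ⟶ Over.mk f := Over.homMk (z ≫ pullback.fst f T.hom) (by
    show (z ≫ pullback.fst f T.hom) ≫ f = T.hom
    rw [Category.assoc, pullback.condition, ← Category.assoc]
    exact (congrArg (· ≫ T.hom) hz).trans (Category.id_comp _))
  have hR : psec R = z := pullback.hom_ext (HilbD.Sec.sec_fst f T _ _)
    ((HilbD.Sec.sec_proj f T _ _).trans hz.symm)
  refine ⟨R, ?_⟩
  rw [qc_mul, show (1 : Q f T) = qc _ (PicLoc.isInvertible_structureModule _) from
    (congrArg _ cls_structureModule_eq_one).symm, qc_eq_iff]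
  refine ⟨N, hN, ⟨?_⟩⟩
  rw [hR]
  exact e ≪≫ (TensorMod.Basic.leftUnit _).symm

include h in
/-- The inverse of the ideal of a point has degree one. -/
theorem deg_dual {T : Over S} (P : T ⟶ Over.mk f) (t : T.left) :
    (CohIII.fiberRank (PicF.XTproj f T) (TensorMod.Dual.dual (ClSub.idealMod (psec P).ker)) 0 t : ℤ) -
      CohIII.fiberRank (PicF.XTproj f T) (TensorMod.Dual.dual (ClSub.idealMod (psec P).ker)) 1 t = 1 := by
  have h' := h.pull (sqT f T)
  have h1 := (Point.degOne_twist h' (psec P) (HilbD.Sec.sec_proj f T _ _)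
    (PicLoc.isInvertible_structureModule _) fun s => by
      rw [Point.fiberRank_zero_structure h'.proper h'.smooth h'.conn h'.dim, h'.genus]
      norm_num).deg t
  rwa [PicDegree.fiberRank_congr _ (TensorMod.Basic.leftUnit _), PicDegree.fiberRank_congr _
    (TensorMod.Basic.leftUnit _)] at h1

include h in
theorem exists_mul {T : Over S} (P P' : T ⟶ Over.mk f) :
    ∃ R, ψ h σ hσ P * ψ h σ hσ P' = ψ h σ hσ R := by
  have h' := h.pull (sqT f T)
  have hI := isInvertible_sec h P
  have hI' := isInvertible_sec h P'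
  have hO := isInvertible_sec h (origin σ hσ T)
  have hD := TensorMod.Invertible.isInvertible_tensorMod
    (TensorMod.Invertible.isInvertible_dual hI) (TensorMod.Invertible.isInvertible_dual hI')
  have hM : Point.DegOne (PicF.XTproj f T) (CohB1.tensorMod (CohB1.tensorMod
      (TensorMod.Dual.dual (ClSub.idealMod (psec P).ker))
      (TensorMod.Dual.dual (ClSub.idealMod (psec P').ker))) (ClSub.idealMod (psec (origin σ hσ T)).ker)) := by
    refine ⟨TensorMod.Invertible.isInvertible_tensorMod hD hO, fun t => ?_⟩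
    rw [Point.fiberRank_tensor h' hD hO t, Point.fiberRank_tensor h'
      (TensorMod.Invertible.isInvertible_dual hI) (TensorMod.Invertible.isInvertible_dual hI') t,
      deg_dual h P t, deg_dual h P' t,
      Point.fiberRank_sec h' _ (HilbD.Sec.sec_proj f T _ _) t]
    norm_num
  obtain ⟨R, hR⟩ := exists_point h hM
  refine ⟨R, ?_⟩
  rw [← qc_mul hD hO, ← qc_mul (TensorMod.Invertible.isInvertible_dual hI)
    (TensorMod.Invertible.isInvertible_dual hI'), qc_dual hI, qc_dual hI'] at hR
  simp only [ψ]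
  rw [eq_inv_of_mul_eq_one_right hR]
  simp only [div_eq_mul_inv, mul_inv_rev, inv_inv]
  ac_rfl

include h in
theorem exists_inv {T : Over S} (P : T ⟶ Over.mk f) :
    ∃ R, (ψ h σ hσ P)⁻¹ = ψ h σ hσ R := by
  have h' := h.pull (sqT f T)
  have hI := isInvertible_sec h P
  have hO := TensorMod.Invertible.isInvertible_dual (isInvertible_sec h (origin σ hσ T))
  have hD := TensorMod.Invertible.isInvertible_tensorMod hO hO
  have hM : Point.DegOne (PicF.XTproj f T) (CohB1.tensorMod (CohB1.tensorMod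
      (TensorMod.Dual.dual (ClSub.idealMod (psec (origin σ hσ T)).ker))
      (TensorMod.Dual.dual (ClSub.idealMod (psec (origin σ hσ T)).ker)))
      (ClSub.idealMod (psec P).ker)) := by
    refine ⟨TensorMod.Invertible.isInvertible_tensorMod hD hI, fun t => ?_⟩
    rw [Point.fiberRank_tensor h' hD hI t, Point.fiberRank_tensor h' hO hO t,
      deg_dual h (origin σ hσ T) t, Point.fiberRank_sec h' _ (HilbD.Sec.sec_proj f T _ _) t]
    norm_num
  obtain ⟨R, hR⟩ := exists_point h hM
  refine ⟨R, ?_⟩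
  rw [← qc_mul hD hI, ← qc_mul hO hO, qc_dual (isInvertible_sec h (origin σ hσ T))] at hR
  simp only [ψ]
  rw [eq_inv_of_mul_eq_one_right hR]
  simp only [div_eq_mul_inv, mul_inv_rev, inv_inv]
  simp [mul_comm, mul_assoc]

/-- The group structure on the points. -/
@[reducible]
def commGroup (T : Over S) : CommGroup (T ⟶ Over.mk f) :=
  letI : Mul (T ⟶ Over.mk f) := ⟨fun P P' => (exists_mul h σ hσ P P').choose⟩
  letI : One (T ⟶ Over.mk f) := ⟨origin σ hσ T⟩
  letI : Inv (T ⟶ Over.mk f) := ⟨fun P => (exists_inv h σ hσ P).choose⟩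
  have hm : ∀ P P' : T ⟶ Over.mk f, ψ h σ hσ (P * P') = ψ h σ hσ P * ψ h σ hσ P' :=
    fun P P' => (exists_mul h σ hσ P P').choose_spec.symm
  have h1 : ψ h σ hσ (1 : T ⟶ Over.mk f) = 1 := ψ_origin h σ hσ T
  have hi : ∀ P : T ⟶ Over.mk f, ψ h σ hσ P⁻¹ = (ψ h σ hσ P)⁻¹ :=
    fun P => (exists_inv h σ hσ P).choose_spec.symm
  { mul := (· * ·)
    one := 1
    inv := (·⁻¹)
    mul_assoc := fun a b c => ψ_injective h σ hσ T (by rw [hm, hm, hm, hm, mul_assoc])
    one_mul := fun a => ψ_injective h σ hσ T (by rw [hm, h1, one_mul])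
    mul_one := fun a => ψ_injective h σ hσ T (by rw [hm, h1, mul_one])
    inv_mul_cancel := fun a => ψ_injective h σ hσ T (by rw [hm, h1, hi, inv_mul_cancel])
    mul_comm := fun a b => ψ_injective h σ hσ T (by rw [hm, hm, mul_comm]) }

theorem ψ_mul {T : Over S} (P P' : T ⟶ Over.mk f) :
    letI := commGroup h σ hσ T
    ψ h σ hσ (P * P') = ψ h σ hσ P * ψ h σ hσ P' :=
  (exists_mul h σ hσ P P').choose_spec.symm

theorem mul_eq_iff {T : Over S} (P P' R : T ⟶ Over.mk f) :
    letI := commGroup h σ hσ T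
    P * P' = R ↔ Rel σ hσ P P' R := by
  letI := commGroup h σ hσ T
  rw [rel_iff h σ hσ, ← ψ_mul h σ hσ]
  exact (ψ_injective h σ hσ T).eq_iff.symm

include h in
/-- The relation is stable under base change. -/
theorem rel_comp {T T' : Over S} (q : T' ⟶ T) {P P' R : T ⟶ Over.mk f} (e : Rel σ hσ P P' R) :
    Rel σ hσ (q ≫ P) (q ≫ P') (q ≫ R) := by
  obtain ⟨M, hM, ⟨i⟩⟩ := e
  have key : ∀ X : T ⟶ Over.mk f, Nonempty ((Scheme.Modules.pullback (PicF.XTmap f q)).obj
      (ClSub.idealMod (psec X).ker) ≅ ClSub.idealMod (psec (q ≫ X)).ker) := fun X =>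
    Point.nonempty_pullback_sec (h.pull (sqT f T)) (HilbD.Basic.isPullback_XTmap f q) (psec X)
      (HilbD.Sec.sec_proj f T _ _) (psec (q ≫ X)) (HilbD.Sec.sec_proj f T' _ _)
      (pullback.hom_ext
        (by simp only [Category.assoc, HilbD.Basic.XTmap_fst, HilbD.Sec.sec_fst, Over.comp_left])
        (by rw [Category.assoc, HilbD.Basic.XTmap_snd, ← Category.assoc, HilbD.Sec.sec_proj,
          Category.id_comp, Category.assoc, HilbD.Sec.sec_proj, Category.comp_id]))
  obtain ⟨a⟩ := key P
  obtain ⟨b⟩ := key P'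
  obtain ⟨c⟩ := key R
  obtain ⟨d⟩ := key (origin σ hσ T)
  have ho : q ≫ origin σ hσ T = origin σ hσ T' := Over.OverMorphism.ext (by
    show q.left ≫ T.hom ≫ σ = T'.hom ≫ σ
    rw [← Category.assoc, Over.w q])
  rw [ho] at d
  refine ⟨_, PicLoc.isInvertible_pullback q.left hM, ⟨?_⟩⟩
  exact TensorMod.Basic.tensorIso a.symm b.symm ≪≫ (pullbackTensorIso _ _ _).symm ≪≫
    (Scheme.Modules.pullback (PicF.XTmap f q)).mapIso i ≪≫ pullbackTensorIso _ _ _ ≪≫
    TensorMod.Basic.tensorIso (pullbackTensorIso _ _ _ ≪≫ TensorMod.Basic.tensorIso c d)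
      ((Scheme.Modules.pullbackComp _ _).app M ≪≫
        (Scheme.Modules.pullbackCongr (HilbD.Basic.XTmap_snd f q)).app M ≪≫
        ((Scheme.Modules.pullbackComp _ _).app M).symm)

theorem comp_mul {T T' : Over S} (q : T' ⟶ T) (P P' : T ⟶ Over.mk f) :
    letI := commGroup h σ hσ T
    letI := commGroup h σ hσ T'
    q ≫ (P * P') = (q ≫ P) * (q ≫ P') := by
  letI := commGroup h σ hσ T
  letI := commGroup h σ hσ T'
  exact ((mul_eq_iff h σ hσ (q ≫ P) (q ≫ P') _).2
    (rel_comp h σ hσ q ((mul_eq_iff h σ hσ P P' _).1 rfl))).symm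

/-- The functor of points with its group law. -/
def functor : (Over S)ᵒᵖ ⥤ GrpCat.{u} where
  obj T := letI := commGroup h σ hσ T.unop; GrpCat.of (T.unop ⟶ Over.mk f)
  map {T T'} q := letI := commGroup h σ hσ T.unop; letI := commGroup h σ hσ T'.unop
    GrpCat.ofHom (MonoidHom.mk' (fun P => q.unop ≫ P) (comp_mul h σ hσ q.unop))
  map_id T := by
    letI := commGroup h σ hσ T.unop
    refine GrpCat.hom_ext (MonoidHom.ext fun P => ?_)
    exact Category.id_comp (obj := Over S) _
  map_comp {T T' T''} q q' := by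
    letI := commGroup h σ hσ T.unop
    letI := commGroup h σ hσ T''.unop
    refine GrpCat.hom_ext (MonoidHom.ext fun P => ?_)
    exact Category.assoc (obj := Over S) _ _ _

/-- The functor of points is represented by the family. -/
def repr : (functor h σ hσ ⋙ forget _).RepresentableBy (Over.mk f) where
  homEquiv := Equiv.refl _
  homEquiv_comp _ _ := rfl

/-- The group object. -/
@[reducible]
def grpObj : GrpObj (Over.mk f) := GrpObj.ofRepresentableBy _ _ (repr h σ hσ)

theorem grpObj_mul {T : Over S} (P P' : T ⟶ Over.mk f) :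
    (@HMul.hMul _ _ _ (letI := grpObj h σ hσ; inferInstance) P P' : T ⟶ Over.mk f) =
      @HMul.hMul _ _ _ (letI := commGroup h σ hσ T; inferInstance) P P' := by
  letI := grpObj h σ hσ
  rw [Hom.mul_def]
  letI := commGroup h σ hσ (Over.mk f ⊗ Over.mk f)
  letI := commGroup h σ hσ T
  refine (comp_mul h σ hσ (CartesianMonoidalCategory.lift P P') _ _).trans ?_
  exact congrArg₂ (@HMul.hMul _ _ _ (@instHMul _ (commGroup h σ hσ T).toMul)) (CartesianMonoidalCategory.lift_fst P P')
    (CartesianMonoidalCategory.lift_snd P P')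

end Groth.Agent.H34.Elliptic.Group
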