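import Groth.Agent.H34.Elliptic.OverField
import Groth.Agent.H63.AbOmega
import Groth.Agent.H2.FlatHom.Abelian
import Groth.Agent.Lib.GrpSch.ConnFibre
import Groth.Agent.Lib.CurveFF.SmoothBC
import Groth.Agent.Lib.Curves.DegreeOne

/-!
# A curve which is a group has genus one
-/

set_option autoImplicit false
set_option linter.style.haveILetI false
universe u

open CategoryTheory CategoryTheory.Limits AlgebraicGeometry MonoidalCategory TopologicalSpace
open scoped CategoryTheory.MonObj

noncomputable section

namespace Groth.Agent.H34.Elliptic.GroupGenus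

open Groth.Agent Groth.Agent.Lib TensorMod TensorMod.Gen

variable {K : Type u} [Field K] {X : Scheme.{u}} (p : X ⟶ Spec (CommRingCat.of K))

/-- A connected scheme over a field with a rational point is geometrically connected. -/
theorem geometricallyConnected [ConnectedSpace X] (e : Spec (CommRingCat.of K) ⟶ X) (he : e ≫ p = 𝟙 _) :
    GeometricallyConnected p := by
  refine GrpSch.geometricallyConnected_of_section p e he fun s => ?_
  have hr : Set.range (p.fiberι s) = Set.univ := by
    rw [p.range_fiberι]
    exact Set.eq_univ_of_forall fun x => Subsingleton.elim (α := PrimeSpectrum K) _ _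
  haveI : Nonempty (p.fiber s) := by
    obtain ⟨a, -⟩ : Classical.arbitrary X ∈ Set.range (p.fiberι s) := hr ▸ Set.mem_univ _
    exact ⟨a⟩
  haveI : PreconnectedSpace (p.fiber s) := ⟨by
    rw [← (p.fiberι s).isEmbedding.isInducing.isPreconnected_image, Set.image_univ, hr]
    exact isPreconnected_univ⟩
  exact ⟨inferInstance⟩

/-- An invertible module on the spectrum of a field is trivial. -/
theorem nonempty_trivial {M : (Spec (CommRingCat.of K)).Modules} (hM : PicF.IsInvertible M) :
    Nonempty (M ≅ Coh.structureModule (Spec (CommRingCat.of K))) := by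
  let z : Spec (CommRingCat.of K) := IsLocalRing.closedPoint K
  haveI : Subsingleton (Spec (CommRingCat.of K)) := inferInstanceAs (Subsingleton (PrimeSpectrum K))
  obtain ⟨U, e, hzU, he⟩ := isInvertible_iff.1 hM z
  obtain rfl : U = ⊤ := eq_top_iff.2 fun w _ => (Subsingleton.elim z w) ▸ hzU
  exact Curves.DegreeOne.nonempty_iso_of_gen he

theorem genus_eq_one [IsProper p] [Smooth p] [GeometricallyConnected p]
    (hdim : topologicalKrullDim X = 1) [GrpObj (Over.mk p)] :
    (letI : X.Over (Spec (CommRingCat.of K)) := ⟨p⟩; Curv2.genus K X) = 1 := by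
  letI : X.Over (Spec (CommRingCat.of K)) := ⟨p⟩
  haveI : IsProper (X ↘ Spec (CommRingCat.of K)) := ‹IsProper p›
  haveI : Smooth (X ↘ Spec (CommRingCat.of K)) := ‹Smooth p›
  haveI : GeometricallyConnected (X ↘ Spec (CommRingCat.of K)) := ‹GeometricallyConnected p›
  haveI : IsProper (Over.mk p).hom := ‹IsProper p›
  haveI : Smooth (Over.mk p).hom := ‹Smooth p›
  haveI : GeometricallyConnected (Over.mk p).hom := ‹GeometricallyConnected p›
  haveI := H2.FlatHom.Abelian.geometricallyReduced (Over.mk p).hom
  haveI : ConnectedSpace X := by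
    haveI : Nonempty (Spec (CommRingCat.of K)) := inferInstanceAs (Nonempty (PrimeSpectrum K))
    haveI : Subsingleton (Spec (CommRingCat.of K)) := inferInstanceAs (Subsingleton (PrimeSpectrum K))
    exact GeometricallyConnected.connectedSpace_of_subsingleton p
  haveI := CurveBundle.SmoothField.isIntegral (X := X) K hdim.le
  have h0 : Module.finrank K (Coh.HH X (Coh.structureModule X) 0) = 1 := CurveFF.finrank_h0_eq_one K X
  have hω := CurveFF.SmoothBC.isInvertible (k := K) (X := X) hdim
  obtain ⟨φ⟩ := H63.AbOmega.nonempty_omega_iso (Over.mk p)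
  obtain ⟨ψ⟩ := nonempty_trivial (K := K) (PicLoc.isInvertible_pullback η[Over.mk p].left hω)
  let i : Omega.sheaf (X ↘ Spec (CommRingCat.of K)) ≅ Coh.structureModule X :=
    φ ≪≫ (Scheme.Modules.pullback (Over.mk p).hom).mapIso ψ ≪≫ PicLoc.pullbackStructureIso _
  have hd := (CurveFF.SmoothBC.omega_facts (k := K) (X := X) hdim h0).2
  rw [Curves.Euler.deg_eq_of_iso i, Curves.Degree.deg_structureModule] at hd
  omega

end Groth.Agent.H34.Elliptic.GroupGenus
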