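import Groth.Agent.H34.Elliptic.Group
import Groth.Agent.H56.DimBaseChange

/-!
# Curves of genus one over a field with a rational point
-/

set_option autoImplicit false
set_option linter.style.haveILetI false
universe u

open CategoryTheory CategoryTheory.Limits AlgebraicGeometry MonoidalCategory
open scoped CategoryTheory.MonObj

noncomputable section

namespace Groth.Agent.H34.Elliptic

open Groth.Agent Groth.Agent.Lib

namespace OverField

variable {K : Type u} [Field K] {X : Scheme.{u}} (p : X ⟶ Spec (CommRingCat.of K))

theorem eq_closedPoint (s : ↥(Spec (CommRingCat.of K))) : s = IsLocalRing.closedPoint K :=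
  Subsingleton.elim (α := PrimeSpectrum K) _ _

/-- Over a field the fibre ranks are the dimensions of cohomology. -/
theorem fiberRank_eq [IsProper p] [Smooth p] (i : ℕ) (s : ↥(Spec (CommRingCat.of K))) :
    CohIII.fiberRank p (Coh.structureModule X) i s =
      (letI : X.Over (Spec (CommRingCat.of K)) := ⟨p⟩
      Module.finrank K (Coh.HH X (Coh.structureModule X) i)) := by
  letI : X.Over (Spec (CommRingCat.of K)) := ⟨p⟩
  have hO := TensorMod.LocFree.of_rank (TensorMod.LocFree.of_isInvertible
    (PicLoc.isInvertible_structureModule X))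
  haveI : (Coh.structureModule X).IsQuasicoherent :=
    TensorMod.QCohInv.isQCoh_of_isInvertible (PicLoc.isInvertible_structureModule X)
  have h := ExchangeFP29.FieldPoint.finrank_HH_eq p (Coh.structureModule X)
    (TensorMod.FPConv.isFP_of_isFinLocFree hO)
    (_root_.ZarCoh.Exchange.NearFibre.isFlatOver_of_isFinLocFree p hO) p (𝟙 _) (𝟙 X)
    (IsPullback.of_horiz_isIso ⟨by simp⟩) i
  rw [eq_closedPoint s]
  exact h.symm.trans
    (Curves.LES.isoK K (PicLoc.pullbackStructureIso (𝟙 X)) i).finrank_eq

/-- A smooth proper geometrically connected curve of genus one over a field is a family of genus one. -/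
theorem fam [IsProper p] [Smooth p] [GeometricallyConnected p] (hdim : topologicalKrullDim X = 1)
    (hgenus : letI : X.Over (Spec (CommRingCat.of K)) := ⟨p⟩
      Module.finrank K (Coh.HH X (Coh.structureModule X) 1) = 1) : Point.Fam p := by
  refine ⟨‹_›, ‹_›, ‹_›, fun s => ?_, fun s => (fiberRank_eq p 1 s).trans hgenus⟩
  exact (@H56.DimBaseChange.topologicalKrullDim_baseChange _ _ _ _ _ _
    ((Spec (CommRingCat.of K)).fromSpecResidueField s) p (p.fiberToSpecResidueField s) (p.fiberι s)
    (IsPullback.of_hasPullback p ((Spec (CommRingCat.of K)).fromSpecResidueField s)) inferInstance).trans hdim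

end OverField

namespace Group

variable {C S : Scheme.{u}} {f : C ⟶ S} (h : Point.Fam f) (σ : S ⟶ C) (hσ : σ ≫ f = 𝟙 S)

theorem grpObj_one : (grpObj h σ hσ).one.left = σ := by
  show (𝟙_ (Over S)).hom ≫ σ = σ
  exact Category.id_comp σ

theorem grpObj_comm : @IsCommMonObj _ _ _ _ (Over.mk f) (grpObj h σ hσ).toMonObj := by
  letI := grpObj h σ hσ
  refine ⟨?_⟩
  have key : ∀ {T : Over S} (P P' : T ⟶ Over.mk f), P * P' = P' * P := fun {T} P P' =>
    (grpObj_mul h σ hσ P P').trans
      ((@mul_comm (T ⟶ Over.mk f) (commGroup h σ hσ T).toCommMagma P P').trans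
        (grpObj_mul h σ hσ P' P).symm)
  have h1 := key (SemiCartesianMonoidalCategory.snd (Over.mk f) (Over.mk f))
    (SemiCartesianMonoidalCategory.fst (Over.mk f) (Over.mk f))
  rw [Hom.mul_def, Hom.mul_def, CartesianMonoidalCategory.lift_fst_snd, Category.id_comp] at h1
  rw [show (β_ (Over.mk f) (Over.mk f)).hom = CartesianMonoidalCategory.lift
      (SemiCartesianMonoidalCategory.snd (Over.mk f) (Over.mk f))
      (SemiCartesianMonoidalCategory.fst (Over.mk f) (Over.mk f)) from
    CartesianMonoidalCategory.hom_ext _ _ (by simp) (by simp)]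
  exact h1

end Group

end Groth.Agent.H34.Elliptic
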