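import Groth.Agent.H34.Elliptic.DegOneDiv
import Groth.Agent.H34.BC0Vanish
import Groth.Agent.H34.CohFlat0.Family
import Groth.Agent.Lib.Cube.SeesawGlobal
import Groth.Agent.Lib.Curves.GenusOne
import Groth.Agent.Lib.ExchangeFP29.FieldPoint

/-!
# The point of an invertible module of degree one on a family of genus one
-/

set_option autoImplicit false
set_option linter.style.haveILetI false
universe u

open CategoryTheory CategoryTheory.Limits AlgebraicGeometry Opposite TopologicalSpace

noncomputable section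

namespace Groth.Agent.H34.Elliptic.Point

open Groth.Agent Groth.Agent.Lib TensorMod TensorMod.Dual TensorMod.Gen TensorMod.Pullback Ample.GenLocus

attribute [local instance] CanonFam.fibOver

/-- The hypotheses on a family of curves of genus one. -/
structure Fam {C S : Scheme.{u}} (f : C ⟶ S) : Prop where
  proper : IsProper f
  smooth : Smooth f
  conn : GeometricallyConnected f
  dim : ∀ s : S, topologicalKrullDim ↥(f.fiber s) = 1
  genus : ∀ s : S, CohIII.fiberRank f (Coh.structureModule C) 1 s = 1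

/-- The hypotheses on an invertible module of degree one. -/
structure DegOne {C S : Scheme.{u}} (f : C ⟶ S) (M : C.Modules) : Prop where
  inv : PicF.IsInvertible M
  deg : ∀ s : S, (CohIII.fiberRank f M 0 s : ℤ) - CohIII.fiberRank f M 1 s = 1

variable {C S : Scheme.{u}} {f : C ⟶ S}

theorem fiberRank_pull (h : Fam f) {M : C.Modules} (hM : PicF.IsInvertible M) {C' S' : Scheme.{u}}
    {g' : C' ⟶ C} {f' : C' ⟶ S'} {g : S' ⟶ S} (sq : IsPullback g' f' f g) (p : ℕ) (t : S') :
    CohIII.fiberRank f' ((Scheme.Modules.pullback g').obj M) p t = CohIII.fiberRank f M p (g t) := by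
  haveI := h.proper
  haveI := h.smooth
  have hM' := TensorMod.LocFree.of_rank (TensorMod.LocFree.of_isInvertible hM)
  haveI : M.IsQuasicoherent := TensorMod.QCohInv.isQCoh_of_isInvertible hM
  exact ExchangeFP29.FieldPoint.fiberRank_baseChange f M
    (TensorMod.FPConv.isFP_of_isFinLocFree hM')
    (_root_.ZarCoh.Exchange.NearFibre.isFlatOver_of_isFinLocFree f hM') g g' f' sq p t

/-- Families of genus one are stable under base change. -/
theorem Fam.pull (h : Fam f) {C' S' : Scheme.{u}} {g' : C' ⟶ C} {f' : C' ⟶ S'} {g : S' ⟶ S}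
    (sq : IsPullback g' f' f g) : Fam f' := by
  haveI := h.proper
  haveI := h.smooth
  haveI := h.conn
  refine ⟨MorphismProperty.of_isPullback sq h.proper, MorphismProperty.of_isPullback sq h.smooth,
    MorphismProperty.of_isPullback sq h.conn, fun t => (AbelMono.dim_fiber_baseChange f sq t).trans (h.dim _),
    fun t => ?_⟩
  refine Eq.trans ?_ ((fiberRank_pull h (PicLoc.isInvertible_structureModule C) sq 1 t).trans (h.genus (g t)))
  exact (Curves.Euler.hdim_eq_of_iso (k := S'.residueField t)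
    ((Scheme.Modules.pullback (f'.fiberι t)).mapIso (PicLoc.pullbackStructureIso g')) 1).symm

theorem DegOne.pull (h : Fam f) {M : C.Modules} (hM : DegOne f M) {C' S' : Scheme.{u}}
    {g' : C' ⟶ C} {f' : C' ⟶ S'} {g : S' ⟶ S} (sq : IsPullback g' f' f g) :
    DegOne f' ((Scheme.Modules.pullback g').obj M) :=
  ⟨PicLoc.isInvertible_pullback g' hM.inv, fun t => by
    rw [fiberRank_pull h hM.inv sq 0 t, fiberRank_pull h hM.inv sq 1 t]; exact hM.deg _⟩

/-- Sections are effective Cartier divisors. -/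
theorem isEffCartier_sec (h : Fam f) (x : S ⟶ C) (hx : x ≫ f = 𝟙 S) :
    BlowUp.IsEffCartierIdeal x.ker := by
  haveI := h.proper
  haveI := h.smooth
  haveI := h.conn
  haveI := AbelMono.smooth_relDim_one f h.dim
  haveI := DegOneSection.isClosedImmersion_section f x hx
  refine RelDiv.Cartier.isEffCartier_of_isFinLocFree f _ ?_
  have h1 : x.toImage ≫ x.ker.subschemeι ≫ f = 𝟙 S := by
    rw [← Category.assoc]
    exact (congrArg (· ≫ f) x.toImage_imageι).trans hx
  haveI : IsIso (x.toImage ≫ x.ker.subschemeι ≫ f) := by rw [h1]; infer_instance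
  haveI : IsIso (x.ker.subschemeι ≫ f) := IsIso.of_isIso_comp_left x.toImage _
  exact (HilbD.Sec.finLocFreeOfDeg_one_of_isIso (x.ker.subschemeι ≫ f)).1

/-- Ideals of sections pull back to ideals of sections. -/
theorem nonempty_pullback_sec (h : Fam f) {C' S' : Scheme.{u}} {g' : C' ⟶ C} {f' : C' ⟶ S'}
    {g : S' ⟶ S} (sq : IsPullback g' f' f g) (x : S ⟶ C) (hx : x ≫ f = 𝟙 S) (x' : S' ⟶ C')
    (hx' : x' ≫ f' = 𝟙 S') (hxx : x' ≫ g' = g ≫ x) :
    Nonempty ((Scheme.Modules.pullback g').obj (ClSub.idealMod x.ker) ≅ ClSub.idealMod x'.ker) := by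
  haveI := h.proper
  haveI := h.smooth
  haveI := h.conn
  haveI := DegOneSection.isClosedImmersion_section f x hx
  have hJ' := isEffCartier_sec (h.pull sq) x' hx'
  have sq' : IsPullback g x' x g' := by
    refine IsPullback.of_bot ?_ hxx.symm sq
    rw [hx', hx]; exact IsPullback.of_vert_isIso ⟨by simp⟩
  have hker : x.ker.comap g' = x'.ker := by
    rw [← Scheme.IdealSheafData.ker_fst_of_isClosedImmersion, ← sq'.flip.isoPullback_inv_fst,
      Scheme.Hom.ker_comp_of_isIso]
  rw [← hker] at hJ'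
  obtain ⟨i⟩ := ModelFibre.IdealPull.nonempty_pullback_idealMod g' (isEffCartier_sec h x hx)
    (fun U s _ hs z hz => by
      obtain ⟨V, hzV, hle, e', he', hspan⟩ := Lib.Ideal.EffCartier.exists_gen hJ' z hz
      rw [Lib.Ideal.Comap.ideal_comap _ _ U V hle, hs, _root_.Ideal.map_span, Set.image_singleton] at hspan
      obtain ⟨a, ha⟩ := _root_.Ideal.mem_span_singleton'.1
        (hspan.ge (_root_.Ideal.mem_span_singleton_self e'))
      obtain ⟨b, hb⟩ := _root_.Ideal.mem_span_singleton'.1
        (hspan.le (_root_.Ideal.mem_span_singleton_self _))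
      have hab : a * b = 1 := by
        have h1 : (a * b - 1) * e' = 0 := by rw [sub_mul, mul_assoc, hb, ha, one_mul, sub_self]
        exact sub_eq_zero.1 (mem_nonZeroDivisors_iff_right.1 he' _ h1)
      have hs' : (g'.appLE U.1 V.1 hle).hom s ∈ nonZeroDivisors _ := by
        rw [← hb]
        exact mul_mem (IsUnit.mem_nonZeroDivisors (IsUnit.of_mul_eq_one a ((mul_comm b a).trans hab))) he'
      have h2 := Lib.Ideal.EffCartier.germ_mem_nonZeroDivisors V.2 hs' z hzV
      rw [Scheme.Hom.appLE, CommRingCat.hom_comp, RingHom.comp_apply,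
        TopCat.Presheaf.germ_res_apply] at h2
      exact h2)
  rw [hker] at i
  exact ⟨i⟩

/-- The section attached to an invertible module is unique. -/
theorem eq_of_iso (h : Fam f) {M : C.Modules} (hM : PicF.IsInvertible M) {x x' : S ⟶ C}
    (hx : x ≫ f = 𝟙 S) (hx' : x' ≫ f = 𝟙 S)
    (e : CohB1.tensorMod M (ClSub.idealMod x.ker) ≅ Coh.structureModule C)
    (e' : CohB1.tensorMod M (ClSub.idealMod x'.ker) ≅ Coh.structureModule C) : x' = x := by
  haveI := h.proper
  haveI := h.smooth
  haveI := h.conn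
  haveI := DerivedOX.Grothendieck.enoughInjectives_modules C
  haveI : HasInjectiveResolutions C.Modules := inferInstance
  exact DegOneSection.eq_of_iso f h.dim x hx hM ⟨e⟩ (fun s => (h.genus s).ge) x' hx'
    (TensorMod.Invertible.cancelRight hM (TensorMod.Basic.comm _ _ ≪≫ e' ≪≫ e.symm ≪≫
      TensorMod.Basic.comm _ _))

variable (h : Fam f) {M : C.Modules} (hM : DegOne f M)

include h hM in
/-- Near every point of the base, the module has a section generating somewhere on every fibre. -/
theorem exists_local_sec (y : S) :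
    ∃ (W : S.Opens) (_ : y ∈ W) (m : Γ(M, f ⁻¹ᵁ W)), ∀ w ∈ W, ∃ x : C, f x = w ∧ Cube.FibreGen.GenNear m x := by
  haveI := h.proper
  haveI := h.smooth
  haveI := h.conn
  haveI := CanonFam.isIntegral f h.dim y
  let g := f.fiberι y
  have hd := DegOneDiv.deg_fibre f h.dim h.genus hM.inv hM.deg y
  have hgen : Curv2.genus (S.residueField y) (f.fiber y) = 1 :=
    (Curves.Euler.hdim_eq_of_iso (k := S.residueField y) (PicLoc.pullbackStructureIso (f.fiberι y)) 1).symm.trans
      (h.genus y)
  have hLy : PicF.IsInvertible (CohIII.fiberMod f M y) := PicLoc.isInvertible_pullback g hM.inv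
  have h1 : Subsingleton (CohIII.fiberH f M y 1) :=
    Curves.GenusOne.subsingleton_h1 (k := S.residueField y) (h.dim y) hgen hLy hd.ge
  have h0 := Curves.GenusOne.hdim_zero (k := S.residueField y) (h.dim y) hgen hLy hd.ge
  rw [hd] at h0
  have hM' := TensorMod.LocFree.of_rank (TensorMod.LocFree.of_isInvertible hM.inv)
  haveI : M.IsQuasicoherent := TensorMod.QCohInv.isQCoh_of_isInvertible hM.inv
  have hbc := BC0Vanish.isIso_bc0 (f := f) (TensorMod.FPConv.isFP_of_isFinLocFree hM')
    (_root_.ZarCoh.Exchange.NearFibre.isFlatOver_of_isFinLocFree f hM')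
    (IsPullback.of_hasPullback f (S.fromSpecResidueField y)) (fun z => by
      rw [Scheme.fromSpecResidueField_apply]; exact h1)
  letI := Curves.GlobalSections.secModule (S.residueField y) (CohIII.fiberMod f M y)
  haveI : Nontrivial Γ((Scheme.Modules.pullback g).obj M, ⊤) := by
    have hfin : Module.finrank (S.residueField y) ((CohIII.fiberMod f M y).val.obj (op ⊤) : Type u) = 1 :=
      (Curves.GlobalSections.h0Linear (S.residueField y) (CohIII.fiberMod f M y)).finrank_eq.symm.trans
        (by exact_mod_cast h0)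
    exact Module.nontrivial_of_finrank_pos (R := S.residueField y)
      (M := ((CohIII.fiberMod f M y).val.obj (op ⊤) : Type u)) (by omega)
  obtain ⟨W, m, hm⟩ := Cube.FibreGen.exists_ne_zero f (S.fromSpecResidueField y)
    (f.fiberToSpecResidueField y) (f.fiberι y) (IsPullback.of_hasPullback f (S.fromSpecResidueField y)).w M
    (@IsIso.epi_of_iso _ _ _ _ _ hbc)
  obtain ⟨B, hB, hxB, hgB⟩ := Cube.FibreGen.genNear_of_ne_zero f g hM.inv m hm
  have hopen : IsOpen (f '' (B : Set C)) := f.isOpenMap _ B.isOpen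
  let O : S.Opens := ⟨f '' (B : Set C), hopen⟩
  refine ⟨W ⊓ O, ⟨?_, ?_⟩, rs M (f.preimage_mono inf_le_left) m, ?_⟩
  · have h2 : f (g (genericPoint (f.fiber y))) ∈ W := hB hxB
    have h3 : f (g (genericPoint (f.fiber y))) = y := by
      have := (f.range_fiberι y).le ⟨genericPoint (f.fiber y), rfl⟩
      simpa using this
    rwa [h3] at h2
  · refine ⟨g (genericPoint (f.fiber y)), hxB, ?_⟩
    have := (f.range_fiberι y).le ⟨genericPoint (f.fiber y), rfl⟩
    simpa using this
  · rintro w ⟨hwW, x, hx, rfl⟩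
    refine ⟨x, rfl, B ⊓ f ⁻¹ᵁ (W ⊓ O), inf_le_right, ⟨hx, hwW, x, hx, rfl⟩, ?_⟩
    rw [rs_rs]
    have h4 := hgB.res (inf_le_left : B ⊓ f ⁻¹ᵁ (W ⊓ O) ≤ B)
    rw [rs_rs] at h4
    exact h4

include h hM in
/-- Over an open with such a section the module is the module of a section. -/
theorem exists_local_point (W : S.Opens) (m : Γ(M, f ⁻¹ᵁ W))
    (hm : ∀ w ∈ W, ∃ x : C, f x = w ∧ Cube.FibreGen.GenNear m x) :
    ∃ x : (W : Scheme.{u}) ⟶ pullback f W.ι, x ≫ pullback.snd f W.ι = 𝟙 _ ∧
      Nonempty (CohB1.tensorMod ((Scheme.Modules.pullback (pullback.fst f W.ι)).obj M)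
        (ClSub.idealMod x.ker) ≅ Coh.structureModule _) := by
  let q := pullback.fst f W.ι
  let p := pullback.snd f W.ι
  have sq : IsPullback q p f W.ι := IsPullback.of_hasPullback f W.ι
  have h' := h.pull sq
  have hM' := hM.pull h sq
  haveI := h'.proper
  haveI := h'.smooth
  haveI := h'.conn
  have hle : (⊤ : (pullback f W.ι).Opens) ≤ q ⁻¹ᵁ (f ⁻¹ᵁ W) := fun z _ => by
    show f (q z) ∈ W
    rw [← Scheme.Hom.comp_apply, sq.w, Scheme.Hom.comp_apply]
    exact (p z).2
  obtain ⟨t, ht⟩ := exists_hom_of_sec (L := (Scheme.Modules.pullback q).obj M)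
    (rs _ hle (unitSec q M m))
  refine DegOneDiv.exists_section p h'.dim h'.genus hM'.inv hM'.deg t fun w => ?_
  haveI := CanonFam.isIntegral p h'.dim w
  obtain ⟨c, hc, B, hB, hcB, hgB⟩ := hm w.1 w.2
  have hsub : q ⁻¹ᵁ B ≤ CohB1.genLocus _ t := by
    refine le_genLocus ?_
    rw [← rs_sv t (le_top : q ⁻¹ᵁ B ≤ ⊤), ht, rs_rs]
    have h2 := isGen_unitSec q hgB
    rw [← unitSec_rs] at h2
    exact h2
  obtain ⟨z, hz1, hz2⟩ := Scheme.Pullback.exists_preimage_pullback (f := f) (g := W.ι) c w hc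
  obtain ⟨a, ha⟩ : z ∈ Set.range (p.fiberι w) := by rw [p.range_fiberι]; exact hz2
  refine hsub ?_
  refine ((genericPoint_specializes a).map (p.fiberι w).continuous).mem_open (Opens.isOpen _) ?_
  show q (p.fiberι w a) ∈ B
  rw [ha, hz1]
  exact hcB

include h hM in
/-- An invertible module of degree one is, up to the base, the module of a unique section. -/
theorem exists_point :
    ∃ P : S ⟶ C, P ≫ f = 𝟙 S ∧ ∃ N : S.Modules, PicF.IsInvertible N ∧
      Nonempty (CohB1.tensorMod M (ClSub.idealMod P.ker) ≅ (Scheme.Modules.pullback f).obj N) := by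
  haveI := h.proper
  haveI := h.smooth
  haveI := h.conn
  choose W hyW m hm using exists_local_sec h hM
  choose x hx he using fun y => exists_local_point h hM (W y) (m y) (hm y)
  let 𝒰 := S.openCoverOfIsOpenCover W (TopologicalSpace.IsOpenCover.mk
    (top_unique fun y _ => Opens.mem_iSup.2 ⟨y, hyW y⟩))
  let P := Scheme.Cover.glueMorphisms 𝒰 (fun y => x y ≫ pullback.fst f (W y).ι) fun a b => by
    let V := pullback (W a).ι (W b).ι
    let r₁ := pullback.fst (W a).ι (W b).ι
    let r₂ := pullback.snd (W a).ι (W b).ι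
    let v : V ⟶ S := r₁ ≫ (W a).ι
    let q := pullback.fst f v
    let p := pullback.snd f v
    have sq : IsPullback q p f v := IsPullback.of_hasPullback f v
    have key : ∀ (c : S) (r : V ⟶ W c), r ≫ (W c).ι = v →
        ∃ z : V ⟶ pullback f v, z ≫ p = 𝟙 V ∧ z ≫ q = r ≫ x c ≫ pullback.fst f (W c).ι ∧
          Nonempty (CohB1.tensorMod ((Scheme.Modules.pullback q).obj M) (ClSub.idealMod z.ker) ≅
            Coh.structureModule _) := by
      intro c r hr
      let l : pullback f v ⟶ pullback f (W c).ι :=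
        pullback.lift q (p ≫ r) (by rw [Category.assoc, hr]; exact sq.w)
      have hl : IsPullback l p (pullback.snd f (W c).ι) r := by
        refine IsPullback.of_right ?_ (pullback.lift_snd _ _ _) (IsPullback.of_hasPullback f (W c).ι)
        rw [pullback.lift_fst, hr]
        exact sq
      let z : V ⟶ pullback f v := hl.lift (r ≫ x c) (𝟙 V) (by
        rw [Category.assoc, hx c, Category.comp_id, Category.id_comp])
      have hz1 : z ≫ p = 𝟙 V := hl.lift_snd _ _ _
      have hz2 : z ≫ l = r ≫ x c := hl.lift_fst _ _ _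
      obtain ⟨i⟩ := nonempty_pullback_sec (h.pull (IsPullback.of_hasPullback f (W c).ι)) hl (x c) (hx c)
        z hz1 hz2
      obtain ⟨e⟩ := he c
      refine ⟨z, hz1, ?_, ⟨?_⟩⟩
      · rw [← pullback.lift_fst q (p ≫ r) (by rw [Category.assoc, hr]; exact sq.w), ← Category.assoc, hz2,
          Category.assoc]
      · exact TensorMod.Basic.tensorIso ((Scheme.Modules.pullbackCongr (pullback.lift_fst _ _ _).symm).app M ≪≫
          ((Scheme.Modules.pullbackComp l (pullback.fst f (W c).ι)).app M).symm) i.symm ≪≫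
          (pullbackTensorIso l _ _).symm ≪≫ (Scheme.Modules.pullback l).mapIso e ≪≫
          PicLoc.pullbackStructureIso l
    obtain ⟨z₁, hz₁, hq₁, ⟨e₁⟩⟩ := key a r₁ rfl
    obtain ⟨z₂, hz₂, hq₂, ⟨e₂⟩⟩ := key b r₂ pullback.condition.symm
    have := eq_of_iso (h.pull sq) (hM.pull h sq).inv hz₁ hz₂ e₁ e₂
    rw [this] at hq₂
    exact hq₁.symm.trans hq₂
  have hP : ∀ y, (W y).ι ≫ P = x y ≫ pullback.fst f (W y).ι := fun y =>
    Scheme.Cover.ι_glueMorphisms 𝒰 _ _ y
  have hPf : P ≫ f = 𝟙 S := Scheme.Cover.hom_ext 𝒰 _ _ fun y => by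
    show (W y).ι ≫ P ≫ f = (W y).ι ≫ 𝟙 S
    rw [← Category.assoc, hP, Category.assoc, pullback.condition, ← Category.assoc, hx,
      Category.id_comp, Category.comp_id]
  refine ⟨P, hPf, ?_⟩
  obtain ⟨N, hN, ⟨i⟩⟩ := Cube.SeesawGlobal.exists_of_local_gen f
    (H2.Rigid.PushFlat.push_of_flat_fp f (CohFlat0.h0_of_finrank f (CanonFam.h0 f h.dim)).1)
    (CohB1.tensorMod M (ClSub.idealMod P.ker)) fun y => by
      obtain ⟨i⟩ := nonempty_pullback_sec h (IsPullback.of_hasPullback f (W y).ι) P hPf (x y) (hx y)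
        (hP y).symm
      obtain ⟨e⟩ := he y
      let l : ((f ⁻¹ᵁ W y : C.Opens) : Scheme.{u}) ⟶ pullback f (W y).ι :=
        pullback.lift (f ⁻¹ᵁ W y).ι (f ∣_ W y) (morphismRestrict_ι f (W y)).symm
      exact ⟨W y, hyW y, TensorMod.Gen.exists_gen_of_iso
        ((Scheme.Modules.restrictFunctorIsoPullback (f ⁻¹ᵁ W y).ι).app _ ≪≫
          (Scheme.Modules.pullbackCongr (pullback.lift_fst _ _ _).symm).app _ ≪≫
          ((Scheme.Modules.pullbackComp l (pullback.fst f (W y).ι)).app _).symm ≪≫
          (Scheme.Modules.pullback l).mapIso (pullbackTensorIso _ _ _ ≪≫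
            TensorMod.Basic.tensorIso (Iso.refl _) i ≪≫ e) ≪≫
          PicLoc.pullbackStructureIso l)⟩
  exact ⟨N, hN, ⟨i.symm⟩⟩

end Groth.Agent.H34.Elliptic.Point
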