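import Groth.Agent.H34.Elliptic.GroupGenus
import Groth.Agent.H34.OmegaAmple
import Groth.Agent.H1.Classical.TorusTransporter
import Groth.Agent.H63.AVBaseChange
import Groth.Agent.Lib.ModelFibre.VertPic
import Groth.Agent.Lib.ModelFibre.TorsGen
import Groth.Agent.H4.GeomInt
import Groth.Agent.S12396
import Groth.Agent.S16248

/-!
# Rational points and torsion line bundles of curves of genus one
-/

set_option autoImplicit false
set_option linter.style.haveILetI false
universe u

open CategoryTheory CategoryTheory.Limits AlgebraicGeometry MonoidalCategory CartesianMonoidalCategory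
open scoped CategoryTheory.MonObj

noncomputable section

namespace Groth.Agent.H34.Elliptic.Torsion

open Groth.Agent Groth.Agent.Lib TensorMod.Pullback PicGrp

local instance (Y : Scheme.{u}) : PicGrp.Law Y := TensorMod.Invertible.law Y

/-- A smooth proper curve with only constant functions is geometrically connected. -/
theorem geometricallyConnected_of_h0 {k : Type u} [Field k] {X : Scheme.{u}}
    [X.Over (Spec (CommRingCat.of k))] [IsIntegral X] [IsProper (X ↘ Spec (CommRingCat.of k))]
    [Smooth (X ↘ Spec (CommRingCat.of k))]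
    (h0 : Module.finrank k (Coh.HH X (Coh.structureModule X) 0) = 1) :
    GeometricallyConnected (X ↘ Spec (CommRingCat.of k)) := by
  obtain ⟨K, _, c', φ, hc, -, hp, hs, hgc⟩ := OmegaAmple.exists_field (X ↘ Spec (CommRingCat.of k))
  letI oX : X.Over (Spec (CommRingCat.of K)) := ⟨c'⟩
  haveI : IsProper (X ↘ Spec (CommRingCat.of K)) := hp
  haveI : Smooth (X ↘ Spec (CommRingCat.of K)) := hs
  haveI : GeometricallyConnected (X ↘ Spec (CommRingCat.of K)) := hgc
  letI : Algebra k K := φ.hom.toAlgebra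
  haveI : IsScalarTower k K (Coh.HH X (Coh.structureModule X) 0) :=
    IsScalarTower.of_algebraMap_smul fun r m => by
      show Coh.toGlobal (X := X) (A := K) c' (φ r) • m =
        Coh.toGlobal (X := X) (A := k) (X ↘ Spec (CommRingCat.of k)) r • m
      refine congrArg (· • m) ?_
      rw [← ZarCoh.Exchange.LocalRep.toGlobal_comp φ c' r]
      exact congrArg (fun h => Coh.toGlobal (X := X) (A := k) h r) hc
  have hmul := Module.finrank_mul_finrank k K (Coh.HH X (Coh.structureModule X) 0)
  rw [CurveFF.finrank_h0_eq_one K X, mul_one, h0] at hmul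
  haveI : Module.Finite k K := Module.finite_of_finrank_eq_succ hmul
  have hb : Function.Bijective (algebraMap k K) :=
    ⟨(algebraMap k K).injective, fun y => by
      obtain ⟨c, hc⟩ := (finrank_eq_one_iff_of_nonzero' (1 : K) one_ne_zero).1 hmul y
      exact ⟨c, by rw [← hc, Algebra.smul_def, mul_one]⟩⟩
  haveI : IsIso φ := (ConcreteCategory.isIso_iff_bijective φ).2 hb
  haveI : MorphismProperty.RespectsIso (@GeometricallyConnected : MorphismProperty Scheme.{u}) :=
    MorphismProperty.IsStableUnderBaseChange.respectsIso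
  rw [← hc]
  exact (MorphismProperty.cancel_right_of_respectsIso @GeometricallyConnected c' (Spec.map φ)).2 hgc

/-- A finite étale scheme over a field acquires all its geometric points over a finite separable
extension. -/
theorem exists_split {L : Type u} [Field L] {K : Scheme.{u}} (q : K ⟶ Spec (CommRingCat.of L))
    [IsFinite q] [Etale q] :
    ∃ L' : IntermediateField L (AlgebraicClosure L), FiniteDimensional L L' ∧ Algebra.IsSeparable L L' ∧
      ∀ t : Spec (CommRingCat.of (AlgebraicClosure L)) ⟶ K,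
        t ≫ q = Spec.map (CommRingCat.ofHom (algebraMap L (AlgebraicClosure L))) →
        ∃ t' : Spec (CommRingCat.of L') ⟶ K,
          t' ≫ q = Spec.map (CommRingCat.ofHom (algebraMap L L')) ∧
          Spec.map (CommRingCat.ofHom (algebraMap L' (AlgebraicClosure L))) ≫ t' = t := by
  classical
  haveI : IsAffine K := isAffine_of_isAffineHom q
  let A := Γ(K, ⊤)
  let ψ : CommRingCat.of L ⟶ A := Spec.preimage (K.isoSpec.inv ≫ q)
  have hψ : Spec.map ψ = K.isoSpec.inv ≫ q := Spec.map_preimage _
  haveI hfin : IsFinite (Spec.map ψ) := by rw [hψ]; infer_instance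
  haveI het : Etale (Spec.map ψ) := by rw [hψ]; infer_instance
  letI : Algebra L A := ψ.hom.toAlgebra
  haveI : Module.Finite L A := (IsFinite.SpecMap_iff _).1 hfin
  haveI : Algebra.Etale L A := (HasRingHomProperty.Spec_iff (P := @Etale) (φ := ψ)).1 het
  let Ω := AlgebraicClosure L
  let G : Set Ω := ⋃ φ : A →ₐ[L] Ω, Set.range fun i => φ ((Module.Free.chooseBasis L A) i)
  haveI : Finite (A →ₐ[L] Ω) := inferInstance
  have hGf : G.Finite := Set.finite_iUnion fun φ => Set.finite_range _
  let L' := IntermediateField.adjoin L G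
  have hsep : ∀ x ∈ G, IsSeparable L x := by
    intro x hx
    obtain ⟨φ, i, rfl⟩ := Set.mem_iUnion.1 hx
    haveI : Algebra.IsIntegral L φ.range :=
      ⟨fun y => (isIntegral_algHom_iff φ.range.val Subtype.val_injective).1
        (Algebra.IsIntegral.isIntegral (y : Ω))⟩
    letI := (isField_of_isIntegral_of_isField' (R := L) (S := φ.range) (Field.toIsField L)).toField
    haveI : Algebra.FormallyUnramified L φ.range :=
      Algebra.FormallyUnramified.of_surjective φ.rangeRestrict φ.rangeRestrict_surjective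
    haveI : Module.Finite L φ.range :=
      Module.Finite.of_surjective φ.rangeRestrict.toLinearMap φ.rangeRestrict_surjective
    haveI : Algebra.EssFiniteType L φ.range := inferInstance
    haveI : Algebra.IsSeparable L φ.range := Algebra.FormallyUnramified.isSeparable L φ.range
    have h := Algebra.IsSeparable.isSeparable L (φ.rangeRestrict ((Module.Free.chooseBasis L A) i))
    unfold IsSeparable at h ⊢
    rwa [← minpoly.algHom_eq φ.range.val Subtype.val_injective] at h
  haveI : FiniteDimensional L L' := by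
    haveI := hGf.to_subtype
    exact IntermediateField.finiteDimensional_adjoin fun x _ => Algebra.IsIntegral.isIntegral x
  refine ⟨L', inferInstance, (IntermediateField.isSeparable_adjoin_iff_isSeparable L (AlgebraicClosure L)).2 hsep, fun t ht => ?_⟩
  let φ₀ : A ⟶ CommRingCat.of Ω := Spec.preimage (t ≫ K.isoSpec.hom)
  have hφ₀ : Spec.map φ₀ = t ≫ K.isoSpec.hom := Spec.map_preimage _
  have hcomm : ψ ≫ φ₀ = CommRingCat.ofHom (algebraMap L Ω) := by
    apply Spec.map_injective
    rw [Spec.map_comp, hφ₀, hψ, Category.assoc, Iso.hom_inv_id_assoc, ht]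
  let φ : A →ₐ[L] Ω := { φ₀.hom with commutes' := fun r => congrArg (fun g => g.hom r) hcomm }
  have hmem : ∀ a, φ a ∈ L' := fun a => by
    rw [← (Module.Free.chooseBasis L A).sum_repr a, map_sum]
    refine sum_mem fun i _ => ?_
    rw [map_smul]
    exact L'.smul_mem (IntermediateField.subset_adjoin L G (Set.mem_iUnion.2 ⟨φ, i, rfl⟩))
  let φ' : A ⟶ CommRingCat.of L' := CommRingCat.ofHom (φ.codRestrict L'.toSubalgebra hmem).toRingHom
  have h2 : φ' ≫ CommRingCat.ofHom (algebraMap L' Ω) = φ₀ := rfl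
  refine ⟨Spec.map φ' ≫ K.isoSpec.inv, ?_, ?_⟩
  · rw [Category.assoc, ← hψ, ← Spec.map_comp]
    congr 1
    refine CommRingCat.hom_ext (RingHom.ext fun r => Subtype.ext ?_)
    exact congrArg (fun g => g.hom r) hcomm
  · rw [← Category.assoc, ← Spec.map_comp, h2, hφ₀, Category.assoc, Iso.hom_inv_id, Category.comp_id]

/-- The classes of invertible modules killed by `n`. -/
def torsCl (Y : Scheme.{u}) (n : ℕ) : Set (PicF.Cl Y) :=
  {c | ∃ M : Y.Modules, PicF.cl M = c ∧ PicF.IsInvertible M ∧
    Nonempty (CohB1.tensorPow M n ≅ Coh.structureModule Y)}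

theorem card_torsCl_eq (Y : Scheme.{u}) (n : ℕ) :
    Nat.card (torsCl Y n) = Nat.card {c : PicLoc.PicSet Y // c ^ n = 1} := by
  refine Nat.card_congr
    { toFun := fun c => ⟨⟨c.1, c.2.choose, c.2.choose_spec.1, c.2.choose_spec.2.1⟩, ?_⟩
      invFun := fun c => ⟨c.1.1, ?_⟩
      left_inv := fun c => rfl
      right_inv := fun c => rfl }
  · obtain ⟨hcl, hM, e⟩ := c.2.choose_spec
    have h1 : ∀ z : PicLoc.PicSet Y, z.1 = c.1 → z = cls c.2.choose hM := fun z hz =>
      Subtype.ext (hz.trans hcl.symm)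
    refine (congrArg (· ^ n) (h1 _ rfl)).trans ?_
    rw [← ModelFibre.VertPic.cls_pow hM, ← cls_structureModule_eq_one, cls_eq_cls_iff]
    exact e
  · obtain ⟨⟨_, M, rfl, hM⟩, hc⟩ := c
    refine ⟨M, rfl, hM, ?_⟩
    change (cls M hM) ^ n = 1 at hc
    rwa [← ModelFibre.VertPic.cls_pow hM, ← cls_structureModule_eq_one, cls_eq_cls_iff] at hc

theorem card_torsCl_iso {Y Z : Scheme.{u}} (e : Y ≅ Z) (n : ℕ) :
    Nat.card (torsCl Y n) = Nat.card (torsCl Z n) := by
  have key : ∀ {A B : Scheme.{u}} (g : A ⟶ B) (c : PicF.Cl B), c ∈ torsCl B n →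
      PicF.pullCl g c ∈ torsCl A n := by
    rintro A B g _ ⟨M, rfl, hM, ⟨i⟩⟩
    obtain ⟨j⟩ := ModelFibre.TorsGen.nonempty_pullback_tensorPow g M n
    exact ⟨_, rfl, PicLoc.isInvertible_pullback g hM,
      ⟨j.symm ≪≫ (Scheme.Modules.pullback g).mapIso i ≪≫ PicLoc.pullbackStructureIso g⟩⟩
  have id' : ∀ {A B : Scheme.{u}} (a : A ⟶ B) (b : B ⟶ A), a ≫ b = 𝟙 A → ∀ c : PicF.Cl A,
      PicF.pullCl a (PicF.pullCl b c) = c := by
    intro A B a b hab c
    induction c using Quot.ind with
    | mk M => exact Quot.sound ⟨(Scheme.Modules.pullbackComp a b).app M ≪≫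
        (Scheme.Modules.pullbackCongr hab).app M ≪≫ (Scheme.Modules.pullbackId A).app M⟩
  exact Nat.card_congr
    { toFun := fun c => ⟨PicF.pullCl e.inv c.1, key _ _ c.2⟩
      invFun := fun c => ⟨PicF.pullCl e.hom c.1, key _ _ c.2⟩
      left_inv := fun c => Subtype.ext (id' _ _ e.hom_inv_id _)
      right_inv := fun c => Subtype.ext (id' _ _ e.inv_hom_id _) }

section Count

open Group

variable {C S : Scheme.{u}} {f : C ⟶ S} (h : Point.Fam f) (σ : S ⟶ C) (hσ : σ ≫ f = 𝟙 S)

theorem ψ_pow {T : Over S} (P : T ⟶ Over.mk f) (n : ℕ) :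
    letI := grpObj h σ hσ
    ψ h σ hσ (P ^ n) = ψ h σ hσ P ^ n := by
  letI := grpObj h σ hσ
  induction n with
  | zero =>
    rw [pow_zero, pow_zero, show (1 : T ⟶ Over.mk f) = origin σ hσ T from Over.OverMorphism.ext (by
      rw [Hom.one_def, Over.comp_left, Over.toUnit_left]
      exact congrArg (T.hom ≫ ·) (grpObj_one h σ hσ)), ψ_origin]
  | succ m ih =>
    rw [pow_succ, pow_succ, ← ih]
    exact (congrArg (ψ h σ hσ) (grpObj_mul h σ hσ _ _)).trans (ψ_mul h σ hσ _ _)

include h in
theorem deg_eq_zero_of_pow {T : Over S} {M : (PicF.XT f T).Modules} (hM : PicF.IsInvertible M)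
    {n : ℕ} (hn : n ≠ 0) (e : CohB1.tensorPow M n ≅ Coh.structureModule _) (t : T.left) :
    (CohIII.fiberRank (PicF.XTproj f T) M 0 t : ℤ) - CohIII.fiberRank (PicF.XTproj f T) M 1 t = 0 := by
  have h' := h.pull (sqT f T)
  have key : ∀ m : ℕ, (CohIII.fiberRank (PicF.XTproj f T) (CohB1.tensorPow M m) 0 t : ℤ) -
      CohIII.fiberRank (PicF.XTproj f T) (CohB1.tensorPow M m) 1 t =
      m * ((CohIII.fiberRank (PicF.XTproj f T) M 0 t : ℤ) - CohIII.fiberRank (PicF.XTproj f T) M 1 t) := by
    intro m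
    induction m with
    | zero =>
      show (CohIII.fiberRank (PicF.XTproj f T) (Coh.structureModule _) 0 t : ℤ) -
        CohIII.fiberRank (PicF.XTproj f T) (Coh.structureModule _) 1 t = _
      rw [Point.fiberRank_zero_structure h'.proper h'.smooth h'.conn h'.dim, h'.genus]
      simp
    | succ m ih =>
      have := Point.fiberRank_tensor h' (TensorMod.Invertible.isInvertible_tensorPow hM m) hM t
      refine Eq.trans this ?_
      rw [ih]
      push_cast
      ring
  have := key n
  rw [PicDegree.fiberRank_congr _ e, PicDegree.fiberRank_congr _ e,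
    Point.fiberRank_zero_structure h'.proper h'.smooth h'.conn h'.dim, h'.genus] at this
  simpa [hn] using this.symm

include h in
theorem exists_ψ {T : Over S} {M : (PicF.XT f T).Modules} (hM : PicF.IsInvertible M) {n : ℕ} (hn : n ≠ 0)
    (e : CohB1.tensorPow M n ≅ Coh.structureModule _) :
    ∃ P : T ⟶ Over.mk f, ψ h σ hσ P = qc M hM := by
  have hO := TensorMod.Invertible.isInvertible_dual (isInvertible_sec h (origin σ hσ T))
  obtain ⟨R, hR⟩ := exists_point h (T := T) (M := CohB1.tensorMod M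
    (TensorMod.Dual.dual (ClSub.idealMod (psec (origin σ hσ T)).ker)))
    ⟨TensorMod.Invertible.isInvertible_tensorMod hM hO, fun t => by
      rw [Point.fiberRank_tensor (h.pull (sqT f T)) hM hO t, deg_dual h (origin σ hσ T) t,
        deg_eq_zero_of_pow h hM hn e t]
      rfl⟩
  refine ⟨R, ?_⟩
  rw [← qc_mul hM hO, qc_dual (isInvertible_sec h (origin σ hσ T))] at hR
  rw [ψ, eq_inv_of_mul_eq_one_right hR, div_inv_eq_mul, mul_comm, mul_assoc, inv_mul_cancel, mul_one]

theorem base_eq_bot {K : Type u} [Field K] (T : Over S) (hT : T.left = Spec (CommRingCat.of K)) :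
    base f T = ⊥ := by
  obtain ⟨T', tr, b⟩ := T
  change T' = _ at hT
  subst hT
  refine (Subgroup.eq_bot_iff_forall _).2 ?_
  rintro c ⟨M, hM, rfl⟩
  obtain ⟨i⟩ := GroupGenus.nonempty_trivial hM
  rw [← cls_structureModule_eq_one, cls_eq_cls_iff]
  exact ⟨(Scheme.Modules.pullback _).mapIso i ≪≫ PicLoc.pullbackStructureIso _⟩

theorem card_torsCl_eq_pts {K : Type u} [Field K] (b : Spec (CommRingCat.of K) ⟶ S) {n : ℕ} (hn : n ≠ 0) :
    letI := grpObj h σ hσ
    Nat.card (torsCl (PicF.XT f (Over.mk b)) n) = Nat.card {P : Over.mk b ⟶ Over.mk f // P ^ n = 1} := by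
  letI := grpObj h σ hσ
  rw [card_torsCl_eq]
  have hb : base f (Over.mk b) = ⊥ := base_eq_bot (K := K) (Over.mk b) rfl
  let ρ : PicLoc.PicSet (PicF.XT f (Over.mk b)) →* Q f (Over.mk b) := QuotientGroup.mk' _
  have hρ : Function.Injective ρ := by
    rw [← MonoidHom.ker_eq_bot_iff, QuotientGroup.ker_mk', hb]
  symm
  refine Nat.card_congr (Equiv.ofBijective (fun P =>
    ⟨(QuotientGroup.mk_surjective (ψ h σ hσ P.1)).choose, hρ ?_⟩) ⟨fun P P' hP => ?_, fun c => ?_⟩)
  · rw [map_pow, map_one]
    show QuotientGroup.mk _ ^ n = 1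
    rw [(QuotientGroup.mk_surjective (ψ h σ hσ P.1)).choose_spec, ← ψ_pow h σ hσ, P.2,
      ← pow_zero P.1, ψ_pow h σ hσ, pow_zero]
  · refine Subtype.ext (ψ_injective h σ hσ _ ?_)
    rw [← (QuotientGroup.mk_surjective (ψ h σ hσ P.1)).choose_spec,
      ← (QuotientGroup.mk_surjective (ψ h σ hσ P'.1)).choose_spec]
    exact congrArg (fun c => (QuotientGroup.mk c : Q f (Over.mk b))) (congrArg Subtype.val hP)
  · obtain ⟨⟨_, M, rfl, hM⟩, hc⟩ := c
    have hc' : (cls M hM) ^ n = 1 := hc
    have he := hc'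
    rw [← ModelFibre.VertPic.cls_pow hM, ← cls_structureModule_eq_one, cls_eq_cls_iff] at he
    obtain ⟨R, hR⟩ := exists_ψ h σ hσ hM hn he.some
    refine ⟨⟨R, ψ_injective h σ hσ _ ?_⟩, Subtype.ext (hρ ?_)⟩
    · rw [ψ_pow h σ hσ, ← pow_zero R, ψ_pow h σ hσ, pow_zero, hR]
      show (ρ (cls M hM)) ^ n = 1
      rw [← map_pow, hc', map_one]
    · show QuotientGroup.mk _ = _
      rw [(QuotientGroup.mk_surjective (ψ h σ hσ R)).choose_spec]
      exact hR

end Count

end Groth.Agent.H34.Elliptic.Torsion
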