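import Groth.Agent.H34.Elliptic.Point
import Groth.Agent.Lib.Curves.RationalPoint
import Groth.Agent.Lib.ProjSpace.SmoothDimEq
import Groth.Prelude.Def_FGA

/-!
# Uniqueness of the point and the degree of a section
-/

set_option autoImplicit false
set_option linter.style.haveILetI false
universe u

open CategoryTheory CategoryTheory.Limits AlgebraicGeometry Opposite TopologicalSpace

noncomputable section

namespace Groth.Agent.H34.Elliptic.Point

open Groth.Agent Groth.Agent.Lib TensorMod TensorMod.Pullback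

attribute [local instance] CanonFam.fibOver

variable {C S : Scheme.{u}} {f : C ⟶ S}

/-- The Euler characteristic of a fibre in degrees at most one. -/
theorem eulerCharLE_eq (f : C ⟶ S) (M : C.Modules) (s : S) :
    @FGA.eulerCharLE (S.residueField s) _ (f.fiber s) (f.fiberOverSpecResidueField s)
      ((Scheme.Modules.pullback (f.fiberι s)).obj M) 1 =
      (CohIII.fiberRank f M 0 s : ℤ) - CohIII.fiberRank f M 1 s := by
  rw [FGA.eulerCharLE, Finset.sum_range_succ, Finset.sum_range_one, pow_zero, pow_one, one_mul,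
    neg_one_mul, ← sub_eq_add_neg]
  rfl

theorem eulerCharLE_structure_eq (f : C ⟶ S) (s : S) :
    @FGA.eulerCharLE (S.residueField s) _ (f.fiber s) (f.fiberOverSpecResidueField s)
      (Coh.structureModule (f.fiber s)) 1 =
      (CohIII.fiberRank f (Coh.structureModule C) 0 s : ℤ) -
        CohIII.fiberRank f (Coh.structureModule C) 1 s := by
  rw [← eulerCharLE_eq, FGA.eulerCharLE, FGA.eulerCharLE]
  refine Finset.sum_congr rfl fun i _ => ?_
  congr 1
  exact_mod_cast Curves.Euler.hdim_eq_of_iso (k := S.residueField s)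
    (X := f.fiber s) (PicLoc.pullbackStructureIso (f.fiberι s)).symm i

theorem fiberRank_zero_structure (hp : IsProper f) (hs : Smooth f) (hc : GeometricallyConnected f)
    (hdim : ∀ s : S, topologicalKrullDim ↥(f.fiber s) = 1) (s : S) :
    CohIII.fiberRank f (Coh.structureModule C) 0 s = 1 := by
  haveI := hp
  haveI := hs
  haveI := hc
  exact (Curves.Euler.hdim_eq_of_iso (k := S.residueField s)
    (PicLoc.pullbackStructureIso (f.fiberι s)) 0).trans (CanonFam.h0 f hdim s)

/-- A family of genus one, from the Euler characteristic. -/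
theorem fam_of_euler (f : C ⟶ S) [IsProper f] [Smooth f] [GeometricallyConnected f]
    (hdim : ∀ s : S, topologicalKrullDim ↥(f.fiber s) = 1)
    (hg : ∀ s : S, @FGA.eulerCharLE (S.residueField s) _ (f.fiber s) (f.fiberOverSpecResidueField s)
      (Coh.structureModule (f.fiber s)) 1 = 0) : Fam f := by
  refine ⟨‹_›, ‹_›, ‹_›, hdim, fun s => ?_⟩
  have h := hg s
  rw [eulerCharLE_structure_eq, fiberRank_zero_structure ‹_› ‹_› ‹_› hdim] at h
  push_cast at h
  omega

/-- The fibres of a smooth morphism of relative dimension one with a section are curves. -/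
theorem dim_fiber_eq_one (f : C ⟶ S) [IsProper f] [SmoothOfRelativeDimension 1 f] (σ : S ⟶ C)
    (hσ : σ ≫ f = 𝟙 S) (s : S) : topologicalKrullDim ↥(f.fiber s) = 1 := by
  haveI : SmoothOfRelativeDimension 1 (f.fiberToSpecResidueField s) :=
    haveI := smoothOfRelativeDimension_isStableUnderBaseChange.{u} (n := 1)
    MorphismProperty.pullback_snd (P := @SmoothOfRelativeDimension 1) f _ ‹_›
  haveI : IsProper (f.fiberToSpecResidueField s) := MorphismProperty.pullback_snd _ _ ‹IsProper f›
  haveI : CompactSpace (f.fiber s) := QuasiCompact.compactSpace_of_compactSpace (f.fiberToSpecResidueField s)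
  have hs : f (σ s) = s := by rw [← Scheme.Hom.comp_apply, hσ]; rfl
  haveI : Nonempty (f.fiber s) := by
    obtain ⟨a, -⟩ : σ s ∈ Set.range (f.fiberι s) := by rw [f.range_fiberι]; exact hs
    exact ⟨a⟩
  exact ProjSpace.SmoothDimEq.topologicalKrullDim_eq (S.residueField s) (f.fiberToSpecResidueField s) 1

/-- The ideal of a section has degree minus one on every fibre. -/
theorem fiberRank_sec (h : Fam f) (x : S ⟶ C) (hx : x ≫ f = 𝟙 S) (y : S) :
    (CohIII.fiberRank f (ClSub.idealMod x.ker) 0 y : ℤ) -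
      CohIII.fiberRank f (ClSub.idealMod x.ker) 1 y = -1 := by
  haveI := h.proper
  haveI := h.smooth
  haveI := h.conn
  haveI := CanonFam.isIntegral f h.dim y
  have sq : IsPullback (f.fiberι y) (f.fiberToSpecResidueField y) f (S.fromSpecResidueField y) :=
    IsPullback.of_hasPullback f (S.fromSpecResidueField y)
  let τ : Spec (CommRingCat.of (S.residueField y)) ⟶ f.fiber y :=
    sq.lift (S.fromSpecResidueField y ≫ x) (𝟙 _) (by
      rw [Category.assoc, hx, Category.comp_id, Category.id_comp])
  have hτ : τ ≫ (f.fiber y ↘ Spec (CommRingCat.of (S.residueField y))) = 𝟙 _ := sq.lift_snd _ _ _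
  have hτι : τ ≫ f.fiberι y = S.fromSpecResidueField y ≫ x := sq.lift_fst _ _ _
  obtain ⟨i⟩ := nonempty_pullback_sec h sq x hx τ hτ hτι
  have hcl : IsClosed ({Curves.RationalPoint.pt (k := S.residueField y) τ} : Set (f.fiber y)) :=
    Curves.RationalPoint.isClosed_pt (k := S.residueField y) τ hτ
  have hkey := Curves.RationalPoint.ker_eq (k := S.residueField y) τ hτ hcl
  have hIy : PicF.IsInvertible (ClSub.idealMod τ.ker) := by
    exact Lib.ClSub.Cartier.isInvertible_idealMod (isEffCartier_sec (h.pull sq) τ hτ)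
  have hgp : genericPoint (f.fiber y) ∉ (τ.ker.support : Set (f.fiber y)) := by
    rw [hkey, Curves.PointIdeal.support_ptI, Set.mem_singleton_iff]
    intro he
    have hgen : (closure {genericPoint (f.fiber y)} : Set (f.fiber y)) = Set.univ := genericPoint_closure _
    rw [he, hcl.closure_eq] at hgen
    haveI : Subsingleton (f.fiber y) :=
      ⟨fun a b => (hgen.ge (Set.mem_univ a) : a = _).trans (hgen.ge (Set.mem_univ b) : b = _).symm⟩
    have hz := topologicalKrullDim_zero_of_discreteTopology (f.fiber y)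
    rw [h.dim y] at hz
    norm_num at hz
  have hd := Curves.Degree.deg_idealMod (k := S.residueField y) (h.dim y).le hIy hgp
  rw [hkey, Curves.PointIdeal.hdim_quot_point hcl,
    Curves.RationalPoint.finrank_residueField (k := S.residueField y) τ hτ] at hd
  have hLy : PicF.IsInvertible (CohIII.fiberMod f (ClSub.idealMod x.ker) y) :=
    TensorMod.Invertible.isInvertible_of_iso i.symm hIy
  have hrr := Curves.Degree.riemann_roch (k := S.residueField y) (h.dim y).le (CanonFam.h0 f h.dim y) hLy
  have hgen' : Curv2.genus (S.residueField y) (f.fiber y) = 1 :=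
    (Curves.Euler.hdim_eq_of_iso (k := S.residueField y) (PicLoc.pullbackStructureIso (f.fiberι y)) 1).symm.trans
      (h.genus y)
  rw [Curves.Euler.deg_eq_of_iso i, hkey, hd, hgen'] at hrr
  refine Eq.trans ?_ (hrr.trans (by norm_num))
  rfl

/-- Tensor products of modules add their degrees. -/
theorem fiberRank_tensor (h : Fam f) {A B : C.Modules} (hA : PicF.IsInvertible A)
    (hB : PicF.IsInvertible B) (y : S) :
    (CohIII.fiberRank f (CohB1.tensorMod A B) 0 y : ℤ) - CohIII.fiberRank f (CohB1.tensorMod A B) 1 y =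
      ((CohIII.fiberRank f A 0 y : ℤ) - CohIII.fiberRank f A 1 y) +
        ((CohIII.fiberRank f B 0 y : ℤ) - CohIII.fiberRank f B 1 y) := by
  haveI := h.proper
  haveI := h.smooth
  haveI := h.conn
  haveI := CanonFam.isIntegral f h.dim y
  let g := f.fiberι y
  have hA' : PicF.IsInvertible (CohIII.fiberMod f A y) := PicLoc.isInvertible_pullback g hA
  have hB' : PicF.IsInvertible (CohIII.fiberMod f B y) := PicLoc.isInvertible_pullback g hB
  have hgen' : Curv2.genus (S.residueField y) (f.fiber y) = 1 :=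
    (Curves.Euler.hdim_eq_of_iso (k := S.residueField y) (PicLoc.pullbackStructureIso (f.fiberι y)) 1).symm.trans
      (h.genus y)
  have e : CohIII.fiberMod f (CohB1.tensorMod A B) y ≅
      CohB1.tensorMod (CohIII.fiberMod f A y) (CohIII.fiberMod f B y) := pullbackTensorIso g A B
  have hAB : PicF.IsInvertible (CohIII.fiberMod f (CohB1.tensorMod A B) y) :=
    PicLoc.isInvertible_pullback g (TensorMod.Invertible.isInvertible_tensorMod hA hB)
  have hh0 := CanonFam.h0 f h.dim y
  have h1 := Curves.Degree.riemann_roch (k := S.residueField y) (h.dim y).le hh0 hA'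
  have h2 := Curves.Degree.riemann_roch (k := S.residueField y) (h.dim y).le hh0 hB'
  have h3 := Curves.Degree.riemann_roch (k := S.residueField y) (h.dim y).le hh0 hAB
  rw [hgen'] at h1 h2 h3
  rw [Curves.Euler.deg_eq_of_iso e,
    Curves.Degree.deg_tensor (k := S.residueField y) (h.dim y).le hA' hB'] at h3
  show (Curves.Euler.hdim (S.residueField y) (f.fiber y) (CohIII.fiberMod f (CohB1.tensorMod A B) y) 0 : ℤ) -
      Curves.Euler.hdim (S.residueField y) (f.fiber y) (CohIII.fiberMod f (CohB1.tensorMod A B) y) 1 =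
    ((Curves.Euler.hdim (S.residueField y) (f.fiber y) (CohIII.fiberMod f A y) 0 : ℤ) -
      Curves.Euler.hdim (S.residueField y) (f.fiber y) (CohIII.fiberMod f A y) 1) +
    ((Curves.Euler.hdim (S.residueField y) (f.fiber y) (CohIII.fiberMod f B y) 0 : ℤ) -
      Curves.Euler.hdim (S.residueField y) (f.fiber y) (CohIII.fiberMod f B y) 1)
  push_cast at h1 h2 h3
  linarith

/-- A module of degree zero twisted by the inverse of the ideal of a section has degree one. -/
theorem degOne_twist (h : Fam f) (σ : S ⟶ C) (hσ : σ ≫ f = 𝟙 S) {L : C.Modules}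
    (hL : PicF.IsInvertible L)
    (hL0 : ∀ s : S, (CohIII.fiberRank f L 0 s : ℤ) - CohIII.fiberRank f L 1 s = 0) :
    DegOne f (CohB1.tensorMod L (TensorMod.Dual.dual (ClSub.idealMod σ.ker))) := by
  have hI : PicF.IsInvertible (ClSub.idealMod σ.ker) :=
    Lib.ClSub.Cartier.isInvertible_idealMod (isEffCartier_sec h σ hσ)
  have hD := TensorMod.Invertible.isInvertible_dual hI
  refine ⟨TensorMod.Invertible.isInvertible_tensorMod hL hD, fun s => ?_⟩
  have h1 := fiberRank_tensor h hL hD s
  have h2 := fiberRank_tensor h hI hD s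
  have h3 := fiberRank_sec h σ hσ s
  have h4 : (CohIII.fiberRank f (CohB1.tensorMod (ClSub.idealMod σ.ker)
      (TensorMod.Dual.dual (ClSub.idealMod σ.ker))) 0 s : ℤ) - CohIII.fiberRank f (CohB1.tensorMod
      (ClSub.idealMod σ.ker) (TensorMod.Dual.dual (ClSub.idealMod σ.ker))) 1 s = 0 := by
    have e : ∀ i, CohIII.fiberRank f (CohB1.tensorMod (ClSub.idealMod σ.ker)
        (TensorMod.Dual.dual (ClSub.idealMod σ.ker))) i s =
        CohIII.fiberRank f (Coh.structureModule C) i s := fun i =>
      Curves.Euler.hdim_eq_of_iso (k := S.residueField s)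
        ((Scheme.Modules.pullback (f.fiberι s)).mapIso (TensorMod.Invertible.tensorDualIso hI)) i
    rw [e, e, fiberRank_zero_structure h.proper h.smooth h.conn h.dim, h.genus]
    norm_num
  have := hL0 s
  linarith

/-- The point is unique, also up to modules from the base. -/
theorem eq_of_twist_iso (h : Fam f) {M : C.Modules} (hM : PicF.IsInvertible M) {P P' : S ⟶ C}
    (hP : P ≫ f = 𝟙 S) (hP' : P' ≫ f = 𝟙 S) {N N' : S.Modules} (hN : PicF.IsInvertible N)
    (hN' : PicF.IsInvertible N')
    (e : CohB1.tensorMod M (ClSub.idealMod P.ker) ≅ (Scheme.Modules.pullback f).obj N)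
    (e' : CohB1.tensorMod M (ClSub.idealMod P'.ker) ≅ (Scheme.Modules.pullback f).obj N') : P' = P := by
  refine Scheme.hom_ext_of_forall _ _ fun y => ?_
  obtain ⟨W₁, hy₁, ⟨j₁⟩⟩ := hN y
  obtain ⟨W₂, hy₂, ⟨j₂⟩⟩ := hN' y
  let W := W₁ ⊓ W₂
  refine ⟨W, ⟨hy₁, hy₂⟩, ?_⟩
  let q := pullback.fst f W.ι
  let p := pullback.snd f W.ι
  have sq : IsPullback q p f W.ι := IsPullback.of_hasPullback f W.ι
  have triv : ∀ (N : S.Modules) (W' : S.Opens) (_ : W ≤ W'),
      (N.restrict W'.ι ≅ Coh.structureModule (W' : Scheme.{u})) →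
      Nonempty ((Scheme.Modules.pullback q).obj ((Scheme.Modules.pullback f).obj N) ≅
        Coh.structureModule _) := by
    intro N W' hW j
    let l : pullback f W.ι ⟶ (W' : Scheme.{u}) := p ≫ S.homOfLE hW
    have hl : l ≫ W'.ι = q ≫ f := by rw [Category.assoc, Scheme.homOfLE_ι]; exact sq.w.symm
    exact ⟨(Scheme.Modules.pullbackComp q f).app N ≪≫ (Scheme.Modules.pullbackCongr hl.symm).app N ≪≫
      ((Scheme.Modules.pullbackComp l W'.ι).app N).symm ≪≫
      (Scheme.Modules.pullback l).mapIso (((Scheme.Modules.restrictFunctorIsoPullback W'.ι).app N).symm ≪≫ j) ≪≫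
      PicLoc.pullbackStructureIso l⟩
  let sec : ∀ x : S ⟶ C, x ≫ f = 𝟙 S → ((W : Scheme.{u}) ⟶ pullback f W.ι) := fun x hx =>
    pullback.lift (W.ι ≫ x) (𝟙 _) (by rw [Category.assoc, hx, Category.comp_id, Category.id_comp])
  obtain ⟨i⟩ := nonempty_pullback_sec h sq P hP (sec P hP) (pullback.lift_snd _ _ _) (pullback.lift_fst _ _ _)
  obtain ⟨i'⟩ := nonempty_pullback_sec h sq P' hP' (sec P' hP') (pullback.lift_snd _ _ _) (pullback.lift_fst _ _ _)
  obtain ⟨t⟩ := triv N W₁ inf_le_left j₁
  obtain ⟨t'⟩ := triv N' W₂ inf_le_right j₂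
  have := eq_of_iso (h.pull sq) (PicLoc.isInvertible_pullback q hM) (x := sec P hP) (x' := sec P' hP')
    (pullback.lift_snd _ _ _) (pullback.lift_snd _ _ _)
    (TensorMod.Basic.tensorIso (Iso.refl _) i.symm ≪≫ (pullbackTensorIso q _ _).symm ≪≫
      (Scheme.Modules.pullback q).mapIso e ≪≫ t)
    (TensorMod.Basic.tensorIso (Iso.refl _) i'.symm ≪≫ (pullbackTensorIso q _ _).symm ≪≫
      (Scheme.Modules.pullback q).mapIso e' ≪≫ t')
  have h2 := congrArg (· ≫ q) this
  simpa only [sec, q, pullback.lift_fst] using h2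

end Groth.Agent.H34.Elliptic.Point

namespace Groth.Agent.H34.Elliptic.Point

open Groth.Agent Groth.Agent.Lib TensorMod.Basic CategoryTheory AlgebraicGeometry

variable {C S : Scheme.{u}} {f : C ⟶ S}

/-- Cancelling the inverse of the ideal of `σ`. -/
noncomputable def twistCancel {X : Scheme.{u}} {I L A M : X.Modules} (hI : PicF.IsInvertible I)
    (e : CohB1.tensorMod (CohB1.tensorMod L (TensorMod.Dual.dual I)) A ≅ M) :
    CohB1.tensorMod L A ≅ CohB1.tensorMod I M :=
  (leftUnit (CohB1.tensorMod L A)).symm ≪≫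
    tensorIso (TensorMod.Invertible.tensorDualIso hI).symm (Iso.refl _) ≪≫
    assoc I (TensorMod.Dual.dual I) _ ≪≫
    tensorIso (Iso.refl I) ((assoc _ L A).symm ≪≫ tensorIso (comm _ L) (Iso.refl A) ≪≫ e)

/-- Introducing the inverse of the ideal of `σ`. -/
noncomputable def twistIntro {X : Scheme.{u}} {I L A M : X.Modules} (hI : PicF.IsInvertible I)
    (e : CohB1.tensorMod L A ≅ CohB1.tensorMod I M) :
    CohB1.tensorMod (CohB1.tensorMod L (TensorMod.Dual.dual I)) A ≅ M :=
  tensorIso (comm L _) (Iso.refl A) ≪≫ assoc _ L A ≪≫ tensorIso (Iso.refl _) e ≪≫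
    (assoc _ I M).symm ≪≫
    tensorIso (comm _ I ≪≫ TensorMod.Invertible.tensorDualIso hI) (Iso.refl M) ≪≫ leftUnit M

/-- Fibrewise degree zero modules are the differences of sections with the origin. -/
theorem existsUnique_point {C S : Scheme.{u}} (f : C ⟶ S) [IsProper f] [SmoothOfRelativeDimension 1 f]
    (hc : GeometricallyConnected f)
    (hg : ∀ s : S, @FGA.eulerCharLE (S.residueField s) _ (f.fiber s) (f.fiberOverSpecResidueField s)
      (Coh.structureModule (f.fiber s)) 1 = 0)
    (σ : S ⟶ C) (hσ : σ ≫ f = 𝟙 S) (L : C.Modules) (hL : PicF.IsInvertible L)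
    (hL0 : ∀ s : S, @FGA.eulerCharLE (S.residueField s) _ (f.fiber s) (f.fiberOverSpecResidueField s)
      ((Scheme.Modules.pullback (f.fiberι s)).obj L) 1 = 0) :
    ∃! P : S ⟶ C, P ≫ f = 𝟙 S ∧ ∃ M : S.Modules, PicF.IsInvertible M ∧
      Nonempty (CohB1.tensorMod L (ClSub.idealMod P.ker) ≅
        CohB1.tensorMod (ClSub.idealMod σ.ker) ((Scheme.Modules.pullback f).obj M)) := by
  haveI := SmoothOfRelativeDimension.smooth 1 f
  haveI := hc
  have h := fam_of_euler f (dim_fiber_eq_one f σ hσ) hg
  have hI : PicF.IsInvertible (ClSub.idealMod σ.ker) :=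
    Lib.ClSub.Cartier.isInvertible_idealMod (isEffCartier_sec h σ hσ)
  have hM := degOne_twist h σ hσ hL fun s => (eulerCharLE_eq f L s).symm.trans (hL0 s)
  obtain ⟨P, hP, N, hN, ⟨e⟩⟩ := exists_point h hM
  refine ⟨P, ⟨hP, N, hN, ⟨twistCancel hI e⟩⟩, ?_⟩
  rintro P' ⟨hP', N', hN', ⟨e'⟩⟩
  exact eq_of_twist_iso h hM.inv hP hP' hN hN' e (twistIntro hI e')

end Groth.Agent.H34.Elliptic.Point
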